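import Cfsg.Agent.Lib.Char.SignedTriples

/-!
# Three signed triples, two of them meeting a fixed entry
-/

set_option autoImplicit false
set_option linter.unusedSectionVars false

namespace Cfsg.Lib.LFourThree

open Cfsg.Lib.Char
open scoped Matrix

universe u

variable {ι : Type u} [Fintype ι] [DecidableEq ι]

theorem sum_on {v : ι → ℤ} {s : Finset ι} (hs : vsupp v ⊆ s) {R : Type*} [CommRing R] (f : ι → R) :
    ∑ x, (v x : R) * f x = ∑ x ∈ s, (v x : R) * f x :=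
  (Finset.sum_subset (Finset.subset_univ s) fun x _ hx => by
    rw [show v x = 0 from by_contra fun h => hx (hs (mem_vsupp.2 h)), Int.cast_zero, zero_mul]).symm

theorem dot_on {v : ι → ℤ} {s : Finset ι} (hs : vsupp v ⊆ s) (w : ι → ℤ) :
    v ⬝ᵥ w = ∑ x ∈ s, v x * w x := by
  simpa [dotProduct] using sum_on hs (R := ℤ) w

theorem pair_of_norm {v : ι → ℤ} (h : v ⬝ᵥ v = 3) {o : ι} (ho : v o ≠ 0) :
    ∃ p q, p ≠ q ∧ p ≠ o ∧ q ≠ o ∧ v p ≠ 0 ∧ v q ≠ 0 ∧ vsupp v = {o, p, q} := by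
  have hc : ((vsupp v).erase o).card = 2 := by
    rw [Finset.card_erase_of_mem (mem_vsupp.2 ho), norm_three_card h]
  obtain ⟨p, q, hpq, he⟩ := Finset.card_eq_two.1 hc
  have hp : p ∈ (vsupp v).erase o := by rw [he]; simp
  have hq : q ∈ (vsupp v).erase o := by rw [he]; simp
  rw [Finset.mem_erase, mem_vsupp] at hp hq
  refine ⟨p, q, hpq, hp.1, hq.1, hp.2, hq.2, ?_⟩
  rw [← Finset.insert_erase (mem_vsupp.2 ho), he]

theorem sum_three {R : Type*} [AddCommMonoid R] {o p q : ι} (f : ι → R) (h1 : p ≠ q) (h2 : p ≠ o) (h3 : q ≠ o) :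
    ∑ x ∈ ({o, p, q} : Finset ι), f x = f o + f p + f q := by
  rw [Finset.sum_insert (by simp [Ne.symm h2, Ne.symm h3]), Finset.sum_pair h1, add_assoc]

/-- The shape of the three vectors. -/
theorem triples (o : ι) (va vb vc d : ι → ℤ) (hd : ∀ x, d x ≠ 0) (hdo : d o = 1)
    (haa : va ⬝ᵥ va = 3) (hbb : vb ⬝ᵥ vb = 3) (hcc : vc ⬝ᵥ vc = 3)
    (hab : va ⬝ᵥ vb = 1) (hac : va ⬝ᵥ vc = -1) (hbc : vb ⬝ᵥ vc = -1)
    (hao : va o = -1) (hbo : vb o = 0) (hco : vc o = 1) (hda : va ⬝ᵥ d = 0) (hdc : vc ⬝ᵥ d = 0) :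
    ∃ p q r s w : ι, va p * va p = 1 ∧ va q * va q = 1 ∧ vc r * vc r = 1 ∧ vc s * vc s = 1 ∧ vb w * vb w = 1 ∧
      ∀ f : ι → ℂ, (∑ x, (va x : ℂ) * f x = -f o + va p * f p + va q * f q) ∧
        (∑ x, (vb x : ℂ) * f x = va q * f q - vc r * f r + vb w * f w) ∧
        (∑ x, (vc x : ℂ) * f x = f o + vc r * f r + vc s * f s) := by
  obtain ⟨p, q, hpq, hpo, hqo, hp, hq, hva⟩ := pair_of_norm haa (o := o) (by omega)
  obtain ⟨r, s, hrs, hro, hso, hr, hs, hvc⟩ := pair_of_norm hcc (o := o) (by omega)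
  have pm : ∀ {v : ι → ℤ} (_ : v ⬝ᵥ v = 3) {x}, v x ≠ 0 → v x = 1 ∨ v x = -1 := fun h x hx => by
    rcases norm_three_entry h x with e | e | e
    · exact Or.inr e
    · exact absurd e hx
    · exact Or.inl e
  have sq : ∀ {v : ι → ℤ} (_ : v ⬝ᵥ v = 3) {x}, v x ≠ 0 → v x * v x = 1 := fun h x hx => by
    rcases pm h hx with e | e <;> simp [e]
  rw [dot_on hva.subset, sum_three _ hpq hpo hqo, hao, hdo] at hda
  rw [dot_on hva.subset, sum_three _ hpq hpo hqo, hao, hco] at hac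
  rw [dot_on hva.subset, sum_three _ hpq hpo hqo, hao, hbo] at hab
  -- the two pairs are disjoint
  have hdis : vc p = 0 ∧ vc q = 0 := by
    by_contra hne
    have hp0 : vc p ≠ 0 := fun h => hne ⟨h, by
      rw [h] at hac
      rcases pm haa hq with e | e <;> rw [e] at hac <;> omega⟩
    have hq0 : vc q ≠ 0 := fun h => by
      rw [h] at hac
      rcases pm haa hp with e | e <;> rw [e] at hac <;> omega
    have hset : vsupp vc = {o, p, q} := by
      refine (Finset.eq_of_subset_of_card_le ?_ ?_).symm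
      · intro x hx
        simp only [Finset.mem_insert, Finset.mem_singleton] at hx
        rcases hx with rfl | rfl | rfl <;> rw [mem_vsupp]
        · omega
        · exact hp0
        · exact hq0
      · rw [norm_three_card hcc, ← hva, norm_three_card haa]
    rw [dot_on hset.subset, sum_three _ hpq hpo hqo, hco, hdo] at hdc
    have hdp := hd p
    have hdq := hd q
    rcases pm haa hp with e1 | e1 <;> rcases pm haa hq with e2 | e2 <;> rcases pm hcc hp0 with e3 | e3 <;>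
      rcases pm hcc hq0 with e4 | e4 <;> rw [e1, e2] at hda hac <;> rw [e3, e4] at hdc hac <;> omega
  -- the common entries of the middle vector
  obtain ⟨p, q, hpq, hpo, hqo, hp, hq, hva, hbp, hbq, hdis⟩ : ∃ p q, p ≠ q ∧ p ≠ o ∧ q ≠ o ∧ va p ≠ 0 ∧
      va q ≠ 0 ∧ vsupp va = {o, p, q} ∧ vb p = 0 ∧ vb q = va q ∧ vc q = 0 := by
    rcases pm haa hp with e1 | e1 <;> rcases pm haa hq with e2 | e2 <;>
      rcases norm_three_entry hbb p with e3 | e3 | e3 <;> rcases norm_three_entry hbb q with e4 | e4 | e4 <;>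
      rw [e1, e2, e3, e4] at hab <;> first
        | omega
        | exact ⟨p, q, hpq, hpo, hqo, hp, hq, hva, e3, e4.trans e2.symm, hdis.2⟩
        | exact ⟨q, p, hpq.symm, hqo, hpo, hq, hp, by rw [hva, Finset.pair_comm], e4, e3.trans e1.symm, hdis.1⟩
  have hbc' : vc ⬝ᵥ vb = -1 := by rw [dotProduct_comm]; exact hbc
  rw [dot_on hvc.subset, sum_three _ hrs hro hso, hco, hbo] at hbc'
  obtain ⟨r, s, hrs, hro, hso, hr, hs, hvc, hbr, hbs⟩ : ∃ r s, r ≠ s ∧ r ≠ o ∧ s ≠ o ∧ vc r ≠ 0 ∧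
      vc s ≠ 0 ∧ vsupp vc = {o, r, s} ∧ vb r = -vc r ∧ vb s = 0 := by
    rcases pm hcc hr with e1 | e1 <;> rcases pm hcc hs with e2 | e2 <;>
      rcases norm_three_entry hbb r with e3 | e3 | e3 <;> rcases norm_three_entry hbb s with e4 | e4 | e4 <;>
      rw [e1, e2, e3, e4] at hbc' <;> first
        | omega
        | exact ⟨r, s, hrs, hro, hso, hr, hs, hvc, by omega, e4⟩
        | exact ⟨s, r, hrs.symm, hso, hro, hs, hr, by rw [hvc, Finset.pair_comm], by omega, e3⟩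
  have hqr : q ≠ r := fun h => hr (h ▸ hdis)
  have hbq0 : vb q ≠ 0 := by rw [hbq]; exact hq
  have hbr0 : vb r ≠ 0 := by omega
  obtain ⟨w, hw⟩ : ∃ w, ((vsupp vb).erase q).erase r = {w} := Finset.card_eq_one.1 (by
    rw [Finset.card_erase_of_mem (Finset.mem_erase.2 ⟨hqr.symm, mem_vsupp.2 hbr0⟩),
      Finset.card_erase_of_mem (mem_vsupp.2 hbq0), norm_three_card hbb])
  have hwm : w ∈ ((vsupp vb).erase q).erase r := by rw [hw]; simp
  simp only [Finset.mem_erase, mem_vsupp] at hwm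
  have hvb : vsupp vb = {q, r, w} := by
    rw [← Finset.insert_erase (mem_vsupp.2 hbq0),
      ← Finset.insert_erase (Finset.mem_erase.2 ⟨hqr.symm, mem_vsupp.2 hbr0⟩), hw]
  refine ⟨p, q, r, s, w, sq haa hp, sq haa hq, sq hcc hr, sq hcc hs, sq hbb hwm.2.2, fun f => ⟨?_, ?_, ?_⟩⟩
  · rw [sum_on hva.subset, sum_three _ hpq hpo hqo, hao]
    push_cast; ring
  · rw [sum_on hvb.subset, sum_three _ (Ne.symm hwm.1) hqr.symm hwm.2.1, hbq, hbr]
    push_cast; ring
  · rw [sum_on hvc.subset, sum_three _ hrs hro hso, hco]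
    push_cast; ring

end Cfsg.Lib.LFourThree
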