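import Cfsg.Agent.Lib.LFourThree.CaseOne.CharModel
import Cfsg.Agent.Lib.LFourThree.CaseOne.Triples
import Cfsg.Agent.Lib.Char.InvolutionSetSum
import Cfsg.Agent.Lib.Char.TI
import Cfsg.Agent.Lib.Char.Linear
import Cfsg.Agent.Lib.Local.GlaubermanComplement
import Cfsg.Agent.Lib.Fusion.Alperin
import Cfsg.Agent.Lib.Core.Cores

/-!
# A group with a subgroup of order 162 controlling its elementary subgroup

If every non-trivial element of the subgroup `J` of order 27 only moves into the subgroup by elements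
of it, then, there being no core of order prime to three, the subgroup is everything: three generalised
characters give a linear character not trivial on an involution, and Glauberman's complement theorem
applies to its kernel.
-/

set_option autoImplicit false
set_option linter.unusedSectionVars false
set_option linter.style.haveILetI false

namespace Cfsg.Lib.LFourThree

open Cfsg Cfsg.Lib Cfsg.Lib.Char Subgroup
open scoped ComplexConjugate Matrix

universe u

namespace ND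

/-- The elementary subgroup of order 27, without the identity. -/
def InJ (x : ND) : Prop := x.a = 0 ∧ x.e = false ∧ x ≠ 1

instance : DecidablePred InJ := fun x => inferInstanceAs (Decidable (_ ∧ _))

/-- The flip. -/
def tau : ND := ⟨0, 0, true⟩

theorem tau_sq : tau * tau = 1 := by decide +kernel

theorem invol_conj : ∀ x : ND, x * x = 1 → x ≠ 1 → ∃ c : ND, c * tau * c⁻¹ = x := by decide +kernel

theorem cA_support : ∀ x : ND, cA x ≠ 0 → InJ (x * x) ∨ InJ (x * x * x) := by decide +kernel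

theorem cC_support : ∀ x : ND, cC x ≠ 0 → InJ (x * x) ∨ InJ (x * x * x) := by decide +kernel

theorem cA_one : cA 1 = 0 := by decide +kernel

theorem cC_one : cC 1 = 0 := by decide +kernel

theorem cA_tau : cA tau = 0 := by decide +kernel

theorem cC_tau : cC tau = 0 := by decide +kernel

theorem norm_A : (∑ p : (ZMod 3 → ZMod 3) × ZMod 3 × Bool, ((cA (equiv p)).1 * (cA (equiv p)).1 -
    (cA (equiv p)).1 * (cA (equiv p)).2 + (cA (equiv p)).2 * (cA (equiv p)).2)) = 486 := by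
  decide +kernel

theorem norm_AB : (∑ p : (ZMod 3 → ZMod 3) × ZMod 3 × Bool, sgnI (equiv p) *
    ((cA (equiv p)).1 * (cA (equiv p)).1 - (cA (equiv p)).1 * (cA (equiv p)).2 +
      (cA (equiv p)).2 * (cA (equiv p)).2)) = 162 := by
  decide +kernel

theorem norm_C : (∑ p : (ZMod 3 → ZMod 3) × ZMod 3 × Bool, cC (equiv p) * cC (equiv p)) = 486 := by
  decide +kernel

theorem sum_A : (∑ p : (ZMod 3 → ZMod 3) × ZMod 3 × Bool, cA (equiv p)) = (-162, 0) := by decide +kernel

theorem sum_B : (∑ p : (ZMod 3 → ZMod 3) × ZMod 3 × Bool, sgnI (equiv p) • cA (equiv p)) = 0 := by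
  decide +kernel

theorem sum_C : (∑ p : (ZMod 3 → ZMod 3) × ZMod 3 × Bool, cC (equiv p)) = 162 := by decide +kernel

theorem sum_AC : (∑ p : (ZMod 3 → ZMod 3) × ZMod 3 × Bool, cC (equiv p) • cA (equiv p)) = (-162, 0) := by
  decide +kernel

theorem sum_BC : (∑ p : (ZMod 3 → ZMod 3) × ZMod 3 × Bool,
    cC (equiv p) • (sgnI (equiv p) • cA (equiv p))) = (-162, 0) := by
  decide +kernel

/-- The involutions. -/
def invs : Finset ND := Finset.univ.filter fun x => x * x = 1 ∧ x ≠ 1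

theorem pair_A : ∑ x ∈ invs, ∑ y ∈ invs, cA (x * y) = (-486, 0) := by decide +kernel

theorem pair_B : ∑ x ∈ invs, ∑ y ∈ invs, sgnI (x * y) • cA (x * y) = (-486, 0) := by decide +kernel

theorem pair_C : ∑ x ∈ invs, ∑ y ∈ invs, cC (x * y) = 1458 := by decide +kernel

theorem basis_inverted : ∀ i : ZMod 3, ∃ a : ZMod 3,
    (⟨0, a, true⟩ : ND) * ⟨Pi.single i 1, 0, false⟩ * ⟨0, a, true⟩ = ⟨Pi.single i 1, 0, false⟩⁻¹ := by
  decide +kernel

theorem flip_sq : ∀ a : ZMod 3, (⟨0, a, true⟩ : ND) * ⟨0, a, true⟩ = 1 := by decide +kernel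

theorem rot_inverted : ∀ a : ZMod 3, tau * (⟨0, a, false⟩ : ND) * tau = ⟨0, a, false⟩⁻¹ := by decide +kernel

theorem P_split : ∀ v a, (⟨v, a, false⟩ : ND) = (⟨Pi.single 0 1, 0, false⟩ : ND) ^ (v 0).val *
    (⟨Pi.single 1 1, 0, false⟩ : ND) ^ (v 1).val * (⟨Pi.single 2 1, 0, false⟩ : ND) ^ (v 2).val *
    ⟨0, a, false⟩ := by
  decide +kernel

theorem P_cube : ∀ i : ZMod 3, (⟨Pi.single i 1, 0, false⟩ : ND) ^ 3 = 1 := by decide +kernel

theorem rot_cube : ∀ a : ZMod 3, (⟨0, a, false⟩ : ND) ^ 3 = 1 := by decide +kernel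

theorem P_pow : ∀ x : ND, x.e = false → x ^ 9 = 1 := by decide +kernel

theorem comm_in_J : ∀ x : ND, x.e = false → ¬ InJ x → x ≠ 1 →
    InJ (x * ⟨Pi.single 0 1, 0, false⟩ * x⁻¹ * (⟨Pi.single 0 1, 0, false⟩ : ND)⁻¹) := by
  decide +kernel

theorem e_one : ∀ x : ND, InJ x → x.e = false := fun _ h => h.2.1

theorem J_basis : InJ (⟨Pi.single 0 1, 0, false⟩ : ND) := by decide +kernel

end ND

open ND in
/-- The local theorem. -/
theorem nd_top {D : Type u} [Group D] [Finite D] (φ : ND →* D) (hinj : Function.Injective φ)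
    (hJ : ∀ j : ND, InJ j → ∀ g : D, g * φ j * g⁻¹ ∈ φ.range → g ∈ φ.range)
    (hcore : Cfsg.pPrimeCore 3 D = ⊥) : φ.range = ⊤ := by
  classical
  haveI : Fintype D := Fintype.ofFinite D
  set L := φ.range with hL
  let e : ND ≃* L := MonoidHom.ofInjective hinj
  have he : ∀ k, ((e k : L) : D) = φ k := fun k => rfl
  haveI : Fintype L := Fintype.ofEquiv ND e.toEquiv
  let pull : (ND → ℂ) → (L → ℂ) := fun f x => f (e.symm x)
  have hgen : ∀ f, IsGeneralizedCharacter ND f → IsGeneralizedCharacter L (pull f) := fun f hf =>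
    hf.comp e.symm.toMonoidHom
  have hcardL : Nat.card L = 162 := by rw [← Nat.card_congr e.toEquiv, ND.card]
  have hsumL : ∀ f : L → ℂ, ∑ x : L, f x = ∑ p : (ZMod 3 → ZMod 3) × ZMod 3 × Bool, f (e (equiv p)) :=
    fun f => (Fintype.sum_equiv (equiv.trans e.toEquiv) _ _ fun p => rfl).symm
  -- the trivial-intersection set
  set A : Set D := φ '' {x | InJ (x * x) ∨ InJ (x * x * x)} with hA
  have hTIA : ∀ g : D, ∀ x : ND, (InJ (x * x) ∨ InJ (x * x * x)) → g * φ x * g⁻¹ ∈ L → g ∈ L := by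
    rintro g x (h | h) hg
    · refine hJ _ h g ?_
      rw [map_mul, show g * (φ x * φ x) * g⁻¹ = (g * φ x * g⁻¹) * (g * φ x * g⁻¹) by group]
      exact mul_mem hg hg
    · refine hJ _ h g ?_
      rw [map_mul, map_mul, show g * (φ x * φ x * φ x) * g⁻¹ =
        (g * φ x * g⁻¹) * (g * φ x * g⁻¹) * (g * φ x * g⁻¹) by group]
      exact mul_mem (mul_mem hg hg) hg
  have hTI : ∀ g : D, g ∉ L → ∀ t ∈ A, t ≠ 1 → g * t * g⁻¹ ∉ A := by
    rintro g hg _ ⟨x, hx, rfl⟩ - ⟨y, -, hy⟩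
    exact hg (hTIA g x hx (hy ▸ ⟨y, rfl⟩))
  have hsupp : ∀ f : ND → ℂ, (∀ x, f x ≠ 0 → InJ (x * x) ∨ InJ (x * x * x)) →
      ∀ x : L, (x : D) ∉ A → pull f x = 0 := by
    intro f hf x hx
    by_contra h
    refine hx ⟨e.symm x, hf _ h, ?_⟩
    rw [← he, MulEquiv.apply_symm_apply]
  have s1 : ∀ x, th₁ x ≠ 0 → InJ (x * x) ∨ InJ (x * x * x) := fun x h => cA_support x fun h' => h (by
    rw [th₁, h', map_zero])
  have s2 : ∀ x, th₂ x ≠ 0 → InJ (x * x) ∨ InJ (x * x * x) := fun x h => cA_support x fun h' => h (by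
    rw [th₂, h', map_zero, mul_zero])
  have s3 : ∀ x, th₃ x ≠ 0 → InJ (x * x) ∨ InJ (x * x * x) := fun x h => cC_support x fun h' => h (by
    rw [th₃, h', Int.cast_zero])
  have one1 : th₁ 1 = 0 := by rw [th₁, cA_one, map_zero]
  have one2 : th₂ 1 = 0 := by rw [th₂, cA_one, map_zero, mul_zero]
  have one3 : th₃ 1 = 0 := by rw [th₃, cC_one, Int.cast_zero]
  let F : (ND → ℂ) → (D → ℂ) := fun f => indFun L (pull f)
  have hFgen : ∀ f, IsGeneralizedCharacter ND f → IsGeneralizedCharacter D (F f) := fun f hf =>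
    isGeneralizedCharacter_indFun L (hgen f hf)
  have hinner : ∀ f f', IsGeneralizedCharacter ND f' → (∀ x, f x ≠ 0 → InJ (x * x) ∨ InJ (x * x * x)) →
      (∀ x, f' x ≠ 0 → InJ (x * x) ∨ InJ (x * x * x)) → f 1 = 0 → classInner (F f) (F f') =
        (162 : ℂ)⁻¹ * ∑ p : (ZMod 3 → ZMod 3) × ZMod 3 × Bool, f (equiv p) * conj (f' (equiv p)) := by
    intro f f' hg' hf hf' h1
    rw [classInner_indFun_TI L A hTI (hgen f' hg').isClassFunction (hsupp f hf) (hsupp f' hf')
      (by show f (e.symm 1) = 0; rw [map_one, h1])]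
    simp only [classInner, hcardL, hsumL, Nat.cast_ofNat]
    simp [pull]
  have hone : ∀ f, classInner (F f) (fun _ => (1 : ℂ)) =
      (162 : ℂ)⁻¹ * ∑ p : (ZMod 3 → ZMod 3) × ZMod 3 × Bool, f (equiv p) := by
    intro f
    rw [classInner_indFun L _ (fun _ _ => rfl)]
    simp only [classInner, hcardL, hsumL, Nat.cast_ofNat]
    simp [pull]
  have cnorm : ∀ (p : ℤ × ℤ) (k : ℤ), (k : ℂ) * ev p * conj (ev p) =
      ((k * (p.1 * p.1 - p.1 * p.2 + p.2 * p.2) : ℤ) : ℂ) := fun p k => by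
    rw [mul_assoc, ev_mul_conj]; push_cast; ring
  have ev_m : ev (-162, 0) = -162 := by rw [ev_apply]; simp
  have ev_k : ∀ (k : ℤ) (p : ℤ × ℤ), ev (k • p) = (k : ℂ) * ev p := fun k p => by
    rw [map_zsmul, zsmul_eq_mul]
  have i11 : classInner (F th₁) (F th₁) = 3 := by
    rw [hinner _ _ isGen_th₁ s1 s1 one1]
    simp only [th₁, ev_mul_conj]
    rw [← Int.cast_sum, norm_A]; norm_num
  have i22 : classInner (F th₂) (F th₂) = 3 := by
    rw [hinner _ _ isGen_th₂ s2 s2 one2]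
    have : ∀ x : ND, th₂ x * conj (th₂ x) = th₁ x * conj (th₁ x) := fun x => by
      have hs : sgnI x * sgnI x = 1 := by unfold sgnI; split <;> rfl
      rw [th₂, th₁, map_mul, map_intCast, show (sgnI x : ℂ) * ev (cA x) * ((sgnI x : ℂ) * conj (ev (cA x))) =
        ((sgnI x * sgnI x : ℤ) : ℂ) * (ev (cA x) * conj (ev (cA x))) by push_cast; ring, hs, Int.cast_one,
        one_mul]
    simp only [this, th₁, ev_mul_conj]
    rw [← Int.cast_sum, norm_A]; norm_num
  have i33 : classInner (F th₃) (F th₃) = 3 := by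
    rw [hinner _ _ isGen_th₃ s3 s3 one3]
    simp only [th₃, map_intCast, ← Int.cast_mul]
    rw [← Int.cast_sum, norm_C]; norm_num
  have i21 : classInner (F th₂) (F th₁) = 1 := by
    rw [hinner _ _ isGen_th₁ s2 s1 one2]
    simp only [th₂, th₁, cnorm]
    rw [← Int.cast_sum, norm_AB]; norm_num
  have i13 : classInner (F th₁) (F th₃) = -1 := by
    rw [hinner _ _ isGen_th₃ s1 s3 one1]
    simp only [th₁, th₃, map_intCast]
    rw [show ∑ p, ev (cA (equiv p)) * (cC (equiv p) : ℂ) = ev (∑ p, cC (equiv p) • cA (equiv p)) by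
      rw [map_sum]; exact Finset.sum_congr rfl fun p _ => by rw [ev_k, mul_comm], sum_AC, ev_m]
    norm_num
  have i23 : classInner (F th₂) (F th₃) = -1 := by
    rw [hinner _ _ isGen_th₃ s2 s3 one2]
    simp only [th₂, th₃, map_intCast]
    rw [show ∑ p, (sgnI (equiv p) : ℂ) * ev (cA (equiv p)) * (cC (equiv p) : ℂ) =
      ev (∑ p, cC (equiv p) • (sgnI (equiv p) • cA (equiv p))) by
      rw [map_sum]; exact Finset.sum_congr rfl fun p _ => by rw [ev_k, ev_k, mul_comm], sum_BC, ev_m]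
    norm_num
  have o1 : classInner (F th₁) (fun _ => (1 : ℂ)) = -1 := by
    rw [hone]
    simp only [th₁]
    rw [← map_sum, sum_A, ev_m]; norm_num
  have o2 : classInner (F th₂) (fun _ => (1 : ℂ)) = 0 := by
    rw [hone]
    simp only [th₂, ← ev_k]
    rw [← map_sum, sum_B, map_zero, mul_zero]
  have o3 : classInner (F th₃) (fun _ => (1 : ℂ)) = 1 := by
    rw [hone]
    simp only [th₃]
    rw [← Int.cast_sum, sum_C]; norm_num
  -- coordinate vectors
  let ι := IrrCharacter D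
  have hint : ∀ f, IsGeneralizedCharacter D f → ∀ χ : ι, ∃ n : ℤ, classInner f (χ : D → ℂ) = n :=
    fun f hf χ => (isGeneralizedCharacter_iff.1 hf).2 χ χ.2
  choose va hva using hint _ (hFgen _ isGen_th₁)
  choose vb hvb using hint _ (hFgen _ isGen_th₂)
  choose vc hvc using hint _ (hFgen _ isGen_th₃)
  have hdot : ∀ (f f' : D → ℂ) (u v : ι → ℤ), IsGeneralizedCharacter D f → (∀ χ : ι, classInner f (χ : D → ℂ) = u χ) →
      (∀ χ : ι, classInner f' (χ : D → ℂ) = v χ) → ∀ k : ℤ, classInner f f' = k → u ⬝ᵥ v = k := by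
    intro f f' u v hf hu hv k hk
    rw [classInner_eq_sum hf.isClassFunction] at hk
    simp only [hu, hv, map_intCast] at hk
    rw [dotProduct]
    exact_mod_cast hk
  choose d hd using fun χ : ι => χ.2.exists_degree
  let dz : ι → ℤ := fun χ => (d χ : ℤ)
  have hdz : ∀ χ : ι, (χ : D → ℂ) 1 = ((dz χ : ℤ) : ℂ) := fun χ => by
    simpa [dz] using (hd χ).2
  have hexp : ∀ (f : D → ℂ) (u : ι → ℤ), IsGeneralizedCharacter D f → (∀ χ : ι, classInner f (χ : D → ℂ) = u χ) →
      ∀ g, f g = ∑ χ, (u χ : ℂ) * (χ : D → ℂ) g := by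
    intro f u hf hu g
    conv_lhs => rw [eq_sum_classInner hf.isClassFunction]
    simp only [Finset.sum_apply, Pi.smul_apply, smul_eq_mul, hu]
    exact Finset.sum_congr (by ext; simp) fun _ _ => rfl
  have hF1 : ∀ f, f 1 = 0 → F f 1 = 0 := fun f h => by
    show indFun L (pull f) 1 = 0
    rw [indFun_apply_one, show pull f 1 = f (e.symm 1) from rfl, map_one, h, mul_zero]
  have hdd : ∀ (f : ND → ℂ) (u : ι → ℤ), IsGeneralizedCharacter ND f → f 1 = 0 →
      (∀ χ : ι, classInner (F f) (χ : D → ℂ) = u χ) → u ⬝ᵥ dz = 0 := by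
    intro f u hf h1 hu
    have h := hexp _ u (hFgen f hf) hu 1
    rw [hF1 f h1] at h
    simp only [hdz] at h
    rw [dotProduct]
    exact_mod_cast h.symm
  let o : ι := ⟨fun _ => 1, isIrrCharacter_one⟩
  have hdo : dz o = 1 := by
    have := hdz o
    rw [show (o : D → ℂ) 1 = 1 from rfl] at this
    exact_mod_cast this.symm
  have hdne : ∀ χ : ι, dz χ ≠ 0 := fun χ h => χ.2.apply_one_ne_zero (by rw [hdz, h, Int.cast_zero])
  have g1 := hFgen _ isGen_th₁
  have g2 := hFgen _ isGen_th₂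
  have g3 := hFgen _ isGen_th₃
  have vo : ∀ (f : D → ℂ) (u : ι → ℤ) (k : ℤ), (∀ χ : ι, classInner f (χ : D → ℂ) = u χ) →
      classInner f (fun _ => (1 : ℂ)) = k → u o = k := by
    intro f u k hu hk
    have := (hu o).symm.trans hk
    exact_mod_cast this
  obtain ⟨p, q, r, s, w, hp, hq, hr, hs, hw, hf⟩ := triples o va vb vc dz hdne hdo
    (hdot _ _ _ _ g1 hva hva 3 (by simpa using i11)) (hdot _ _ _ _ g2 hvb hvb 3 (by simpa using i22))
    (hdot _ _ _ _ g3 hvc hvc 3 (by simpa using i33))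
    (by rw [dotProduct_comm]; exact hdot _ _ _ _ g2 hvb hva 1 (by simpa using i21))
    (hdot _ _ _ _ g1 hva hvc (-1) (by simpa using i13)) (hdot _ _ _ _ g2 hvb hvc (-1) (by simpa using i23))
    (vo _ _ (-1) hva (by simpa using o1)) (vo _ _ 0 hvb (by simpa using o2)) (vo _ _ 1 hvc (by simpa using o3))
    (hdd _ _ isGen_th₁ one1 hva) (hdd _ _ isGen_th₃ one3 hvc)
  -- values at the involution
  set t := φ tau
  have hF0 : ∀ f, f 1 = 0 → f tau = 0 → IsGeneralizedCharacter ND f → F f t = 0 := by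
    intro f h1 ht hg
    refine indFun_invol_eq_zero L (fun h hh => ?_) (by rw [← map_mul, tau_sq, map_one])
    show f (e.symm h) = 0
    have h2 : e.symm h * e.symm h = 1 := by
      rw [← map_mul, show h * h = 1 from Subtype.ext hh, map_one]
    by_cases h0 : e.symm h = 1
    · rw [h0, h1]
    · obtain ⟨c, hc⟩ := invol_conj _ h2 h0
      rw [← hc, hg.isClassFunction, ht]
  -- the class of the involution
  set I : Finset D := Finset.univ.filter fun x => ∃ k, k * t * k⁻¹ = x with hI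
  have hIc : ConjClosed I := by
    intro k x hx
    simp only [hI, Finset.mem_filter, Finset.mem_univ, true_and] at hx ⊢
    obtain ⟨c, rfl⟩ := hx
    exact ⟨k * c, by group⟩
  have hIinv : ∀ x ∈ I, x * x = 1 := by
    intro x hx
    simp only [hI, Finset.mem_filter, Finset.mem_univ, true_and] at hx
    obtain ⟨c, rfl⟩ := hx
    rw [show c * t * c⁻¹ * (c * t * c⁻¹) = c * (t * t) * c⁻¹ by group, ← map_mul, tau_sq, map_one, mul_one,
      mul_inv_cancel]
  have hIL : ∀ k : ND, φ k ∈ I ↔ k ∈ invs := by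
    intro k
    simp only [hI, invs, Finset.mem_filter, Finset.mem_univ, true_and]
    constructor
    · rintro ⟨c, hc⟩
      have h2 : φ k * φ k = 1 := hIinv _ (by simp [hI]; exact ⟨c, hc⟩)
      refine ⟨hinj (by rw [map_mul, h2, map_one]), fun h => ?_⟩
      rw [h, map_one, conj_eq_one_iff] at hc
      exact absurd (hinj (hc.trans (map_one φ).symm)) (by decide +kernel)
    · rintro ⟨h1, h2⟩
      obtain ⟨c, hc⟩ := invol_conj k h1 h2
      exact ⟨φ c, by rw [← map_inv, ← map_mul, ← map_mul, hc]⟩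
  set N : ℂ := (I.card : ℂ) with hN
  have hN0 : N ≠ 0 := by
    rw [hN, Nat.cast_ne_zero, ← Nat.pos_iff_ne_zero, Finset.card_pos]
    exact ⟨t, by simp [hI]; exact ⟨1, by simp⟩⟩
  have hSI : ∀ χ : ι, ∑ x ∈ I, (χ : D → ℂ) x = N * (χ : D → ℂ) t := by
    intro χ
    rw [Finset.sum_congr rfl fun x hx => show (χ : D → ℂ) x = (χ : D → ℂ) t from by
      simp only [hI, Finset.mem_filter, Finset.mem_univ, true_and] at hx
      obtain ⟨c, rfl⟩ := hx
      exact χ.2.isClassFunction t c, Finset.sum_const, nsmul_eq_mul]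
  set m : ℂ := (L.index : ℂ) with hm
  have hm0 : m ≠ 0 := by rw [hm, Nat.cast_ne_zero]; exact L.index_ne_zero_of_finite
  have hpair : ∀ (f : ND → ℂ) (u : ι → ℤ), IsGeneralizedCharacter ND f → (∀ x, f x ≠ 0 → InJ (x * x) ∨ InJ (x * x * x)) →
      (∀ χ : ι, classInner (F f) (χ : D → ℂ) = ((u χ : ℤ) : ℂ)) →
      m * ∑ x ∈ invs, ∑ y ∈ invs, f (x * y) =
        ∑ χ : ι, (u χ : ℂ) * ((N * (χ : D → ℂ) t) * (N * (χ : D → ℂ) t) / (χ : D → ℂ) 1) := by
    intro f u hf hfs hu
    have h1 := sum_conjClosed_pair_eq (I := I) hIc (isClassFunction_indFun L (pull f))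
    have h2 := sum_pair_indFun_local L hIc hIc (ψ := pull f) (by
      intro x hx y hy h hxy hne
      have hk := hfs _ hne
      set k := e.symm h
      have hhk : φ k = h := by rw [← he, MulEquiv.apply_symm_apply]
      refine hTIA x k hk ?_
      rw [hhk, ← hxy, inv_eq_of_mul_eq_one_right (hIinv x hx)]
      have : (x * y)⁻¹ = y * x := by
        rw [_root_.mul_inv_rev, inv_eq_of_mul_eq_one_right (hIinv x hx), inv_eq_of_mul_eq_one_right (hIinv y hy)]
      rw [show x * (x * y) * x = (x * x) * (y * x) by group, hIinv x hx, one_mul, ← this, hxy]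
      exact inv_mem h.2)
    rw [h2] at h1
    simp only [show ∀ χ : ι, classInner (indFun L (pull f)) (χ : D → ℂ) = ((u χ : ℤ) : ℂ) from hu, hSI] at h1
    rw [← h1]
    congr 1
    have hmap : Finset.univ.filter (fun x : L => (x : D) ∈ I) = invs.map e.toEquiv.toEmbedding := by
      ext x
      rw [Finset.mem_filter, Finset.mem_map_equiv, ← hIL, ← he]
      simp
    rw [hmap, Finset.sum_map]
    refine Finset.sum_congr rfl fun x _ => ?_
    rw [Finset.sum_map]
    refine Finset.sum_congr rfl fun y _ => ?_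
    show f (x * y) = f (e.symm (e x * e y))
    rw [← map_mul, MulEquiv.symm_apply_apply]
  -- the equations
  obtain ⟨ha1, hb1, hc1⟩ := hf fun χ => (χ : D → ℂ) 1
  obtain ⟨hat, hbt, hct⟩ := hf fun χ => (χ : D → ℂ) t
  obtain ⟨hap, hbp, hcp⟩ := hf fun χ => (N * (χ : D → ℂ) t) * (N * (χ : D → ℂ) t) / (χ : D → ℂ) 1
  rw [← hexp _ _ g1 hva, hF1 _ one1] at ha1
  rw [← hexp _ _ g2 hvb, hF1 _ one2] at hb1
  rw [← hexp _ _ g3 hvc, hF1 _ one3] at hc1
  rw [← hexp _ _ g1 hva, hF0 _ one1 (by rw [th₁, cA_tau, map_zero]) isGen_th₁] at hat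
  rw [← hexp _ _ g2 hvb, hF0 _ one2 (by rw [th₂, cA_tau, map_zero, mul_zero]) isGen_th₂] at hbt
  rw [← hexp _ _ g3 hvc, hF0 _ one3 (by rw [th₃, cC_tau, Int.cast_zero]) isGen_th₃] at hct
  have ev486 : ev (-486, 0) = -486 := by rw [ev_apply]; simp
  rw [← hpair _ va isGen_th₁ s1 hva] at hap
  rw [← hpair _ vb isGen_th₂ s2 hvb] at hbp
  rw [← hpair _ vc isGen_th₃ s3 hvc] at hcp
  simp only [th₁, ← map_sum, pair_A, ev486] at hap
  simp only [th₂, ← ev_k, ← map_sum, pair_B, ev486] at hbp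
  simp only [th₃, ← Int.cast_sum, pair_C] at hcp
  simp only [show (o : D → ℂ) 1 = 1 from rfl, show (o : D → ℂ) t = 1 from rfl, mul_one, div_one] at ha1 hc1 hat hct hap hcp
  -- the signed degrees
  have sd : ∀ (u : ι → ℤ) (χ : ι), u χ * u χ = 1 →
      ((u χ : ℂ) * ((N * (χ : D → ℂ) t) * (N * (χ : D → ℂ) t) / (χ : D → ℂ) 1) =
        N * N * ((u χ : ℂ) * (χ : D → ℂ) t) * ((u χ : ℂ) * (χ : D → ℂ) t) / ((u χ : ℂ) * (χ : D → ℂ) 1)) := by
    intro u χ h
    have h' : (u χ : ℂ) * (u χ : ℂ) = 1 := by exact_mod_cast h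
    have h0 : (u χ : ℂ) ≠ 0 := left_ne_zero_of_mul_eq_one h'
    have := χ.2.apply_one_ne_zero
    field_simp
  rw [sd va p hp, sd va q hq] at hap
  rw [sd va q hq, sd vc r hr, sd vb w hw] at hbp
  rw [sd vc r hr, sd vc s hs] at hcp
  set A1 := (va p : ℂ) * (p : D → ℂ) 1
  set H1 := (va q : ℂ) * (q : D → ℂ) 1
  set V1 := (vc r : ℂ) * (r : D → ℂ) 1 with hV1
  set W1 := (vc s : ℂ) * (s : D → ℂ) 1 with hW1
  set B1 := (vb w : ℂ) * (w : D → ℂ) 1
  set At := (va p : ℂ) * (p : D → ℂ) t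
  set Ht := (va q : ℂ) * (q : D → ℂ) t
  set Vt := (vc r : ℂ) * (r : D → ℂ) t with hVt
  set Wt := (vc s : ℂ) * (s : D → ℂ) t with hWt
  set Bt := (vb w : ℂ) * (w : D → ℂ) t
  have nz : ∀ (u : ι → ℤ) (χ : ι), u χ * u χ = 1 → (u χ : ℂ) * (χ : D → ℂ) 1 ≠ 0 := fun u χ h =>
    mul_ne_zero (by exact_mod_cast left_ne_zero_of_mul_eq_one h) χ.2.apply_one_ne_zero
  have nA : A1 ≠ 0 := nz va p hp
  have nH : H1 ≠ 0 := nz va q hq
  have nV : V1 ≠ 0 := nz vc r hr
  have nW : W1 ≠ 0 := nz vc s hs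
  have nB : B1 ≠ 0 := nz vb w hw
  have eA : A1 = 1 - H1 := by linear_combination -ha1
  have eB : B1 = V1 - H1 := by linear_combination -hb1
  have eW : W1 = -(1 + V1) := by linear_combination -hc1
  have fA : At = 1 - Ht := by linear_combination -hat
  have fB : Bt = Vt - Ht := by linear_combination -hbt
  have fW : Wt = -(1 + Vt) := by linear_combination -hct
  set c : ℂ := N * N
  set X : ℂ := -H1 with hX
  set a' : ℂ := X + Ht with ha'
  set b' : ℂ := V1 - Vt with hb'
  have P1 : c * a' ^ 2 = 486 * m * X * (X + 1) := by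
    have h := hap
    rw [eA, fA] at h
    have h1 : (1 : ℂ) - H1 ≠ 0 := eA ▸ nA
    field_simp at h
    rw [ha', hX]
    linear_combination -h
  have P3 : c * b' ^ 2 = 1458 * m * V1 * (V1 + 1) := by
    have h := hcp
    rw [eW, fW] at h
    have h1 : -((1 : ℂ) + V1) ≠ 0 := eW ▸ nW
    have h2 : (1 : ℂ) + V1 ≠ 0 := neg_ne_zero.1 h1
    push_cast at h
    field_simp at h
    rw [hb']
    linear_combination -h
  have P2 : c * (a' * V1 - b' * X) ^ 2 = 486 * m * X * V1 * (X + V1) := by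
    have h := hbp
    rw [eB, fB] at h
    have h1 : V1 - H1 ≠ 0 := eB ▸ nB
    field_simp at h
    rw [ha', hb', hX]
    linear_combination -h
  have hX0 : X ≠ 0 := neg_ne_zero.2 nH
  have hP : c * a' * b' = 486 * m * X * (2 * V1 + 1) := by
    have h : (2 * (X * V1)) * (c * a' * b' - 486 * m * X * (2 * V1 + 1)) = 0 := by
      linear_combination V1 ^ 2 * P1 + X ^ 2 * P3 - P2
    exact sub_eq_zero.1 ((mul_eq_zero.1 h).resolve_left (mul_ne_zero two_ne_zero (mul_ne_zero hX0 nV)))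
  have hkey : X * (V1 * V1 + V1 + 1) = 3 * V1 * (V1 + 1) := by
    have h : (486 * 486 * m ^ 2 * X) * (X * (2 * V1 + 1) ^ 2 - 3 * (X + 1) * V1 * (V1 + 1)) = 0 := by
      linear_combination -(c * a' * b' + 486 * m * X * (2 * V1 + 1)) * hP +
        (c * b' ^ 2) * P1 + (486 * m * X * (X + 1)) * P3
    have h' := (mul_eq_zero.1 h).resolve_left (by
      refine mul_ne_zero (mul_ne_zero (by norm_num) (pow_ne_zero 2 hm0)) hX0)
    linear_combination h'
  -- the integers
  set iV : ℤ := vc r * dz r with hiV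
  set iX : ℤ := -(va q * dz q) with hiX
  have cV : V1 = (iV : ℂ) := by rw [hV1, hiV, Int.cast_mul, hdz]
  have cX : X = (iX : ℂ) := by rw [hX, hiX, Int.cast_neg, Int.cast_mul, ← hdz]
  rw [cV, cX] at hkey
  have hkeyZ : iX * (iV * iV + iV + 1) = 3 * iV * (iV + 1) := by exact_mod_cast hkey
  have hV3 : iV * iV + iV + 1 ∣ 3 := ⟨iV * iV + iV + 1 - (iV * iV + iV) - (iX - 3) - 1, by
    linear_combination hkeyZ⟩
  have hle := Int.le_of_dvd (by norm_num) hV3
  have b1 : iV ≤ 1 := by nlinarith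
  have b2 : -2 ≤ iV := by nlinarith
  have hiV0 : iV ≠ 0 := mul_ne_zero (left_ne_zero_of_mul_eq_one hr) (hdne r)
  have hiW : vc s * dz s = -(1 + iV) := by
    have : ((vc s * dz s : ℤ) : ℂ) = ((-(1 + iV) : ℤ) : ℂ) := by
      push_cast
      rw [← hdz, ← hW1, eW, cV]
    exact_mod_cast this
  have hiW0 : vc s * dz s ≠ 0 := mul_ne_zero (left_ne_zero_of_mul_eq_one hs) (hdne s)
  have hb0 : b' ≠ 0 := fun h => by
    rw [h, zero_pow two_ne_zero, mul_zero] at P3
    rcases mul_eq_zero.1 P3.symm with h1 | h1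
    · rcases mul_eq_zero.1 h1 with h2 | h2
      · exact hm0 ((mul_eq_zero.1 h2).resolve_left (by norm_num))
      · exact nV h2
    · exact nW (by rw [eW, add_comm, h1, neg_zero])
  obtain ⟨μ, hμ1, hμt⟩ : ∃ μ : ι, (μ : D → ℂ) 1 = 1 ∧ (μ : D → ℂ) t ≠ 1 := by
    have hdp : ∀ χ : ι, 0 < dz χ := fun χ => by
      have := hdne χ
      simp only [dz] at this ⊢
      omega
    have h1 : iV = 1 ∨ iV = -2 := by interval_cases iV <;> omega
    rcases h1 with h | h
    · have hp' := hdp r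
      have : vc r = 1 ∧ dz r = 1 := by
        rw [hiV] at h
        rcases Int.eq_one_or_neg_one_of_mul_eq_one hr with e | e <;> rw [e] at h <;> omega
      refine ⟨r, by rw [hdz, this.2, Int.cast_one], fun h' => hb0 ?_⟩
      rw [hb', hV1, hVt, this.1, hdz, this.2, h']
      simp
    · have hp' := hdp s
      have : vc s = 1 ∧ dz s = 1 := by
        rw [h] at hiW
        rcases Int.eq_one_or_neg_one_of_mul_eq_one hs with e | e <;> rw [e] at hiW <;> omega
      refine ⟨s, by rw [hdz, this.2, Int.cast_one], fun h' => hb0 ?_⟩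
      have hw1 : W1 = 1 := by rw [hW1, this.1, hdz, this.2]; simp
      have hw2 : Wt = 1 := by rw [hWt, this.1, h']; simp
      rw [hb']
      linear_combination eW - fW - hw1 + hw2
  obtain ⟨l, hl⟩ := exists_hom_of_degree_one μ.2.isCharacter hμ1
  -- its kernel meets the subgroup in the elements without flip
  set E := l.ker with hE
  have hlinv : ∀ x y : ND, y * x * y = x⁻¹ → y * y = 1 → x ^ 3 = 1 → φ x ∈ E := by
    intro x y hyx hy h3
    rw [hE, MonoidHom.mem_ker]
    have a := congrArg (fun z => l (φ z)) hyx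
    have b := congrArg (fun z => l (φ z)) hy
    have c := congrArg (fun z => l (φ z)) h3
    simp only [map_mul, map_inv, map_one, map_pow] at a b c
    rw [mul_comm (l (φ y)) (l (φ x)), mul_assoc, b, mul_one] at a
    rw [pow_succ, pow_two, mul_eq_one_iff_eq_inv.2 a, one_mul] at c
    exact c
  have hPE : ∀ x : ND, x.e = false → φ x ∈ E := by
    intro x hx
    have hb : ∀ i : ZMod 3, φ (⟨Pi.single i 1, 0, false⟩ : ND) ∈ E := by
      intro i
      obtain ⟨a, ha⟩ := basis_inverted i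
      exact hlinv _ ⟨0, a, true⟩ ha (flip_sq a) (P_cube i)
    rw [show x = ⟨x.v, x.a, false⟩ from ND.ext rfl rfl hx, P_split, map_mul, map_mul, map_mul, map_pow, map_pow,
      map_pow]
    exact mul_mem (mul_mem (mul_mem (pow_mem (hb 0) _) (pow_mem (hb 1) _)) (pow_mem (hb 2) _))
      (hlinv _ tau (rot_inverted x.a) tau_sq (rot_cube x.a))
  have htE : t ∉ E := by
    intro h
    rw [hE, MonoidHom.mem_ker] at h
    refine hμt ?_
    rw [congrFun hl t]
    show ((l t : ℂˣ) : ℂ) = 1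
    rw [h]
    rfl
  have hEL : ∀ x : ND, φ x ∈ E → x.e = false := by
    intro x hx
    by_contra he'
    rw [Bool.not_eq_false] at he'
    refine htE ?_
    have h1 : φ (x * tau) ∈ E := hPE _ (by
      show Bool.xor x.e true = false
      rw [he']; rfl)
    have h2 := mul_mem (inv_mem hx) h1
    rwa [map_mul, inv_mul_cancel_left] at h2
  -- the Sylow subgroup
  set S : Subgroup D := ND.P.map φ with hS
  have hSc : Nat.card S = 3 ^ 4 := by rw [hS, Subgroup.card_map_of_injective hinj, card_P]; norm_num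
  have hSp : IsPGroup 3 S := IsPGroup.of_card hSc
  have hj0 : φ ⟨Pi.single 0 1, 0, false⟩ ∈ S := ⟨_, e_one _ J_basis, rfl⟩
  have hSn : ∀ g ∈ normalizer (S : Set D), g ∈ L := by
    intro g hg
    refine hJ _ J_basis g ?_
    obtain ⟨y, -, hy⟩ := (mem_normalizer_iff.1 hg _).1 hj0
    exact ⟨y, hy⟩
  obtain ⟨P0, hP0⟩ := hSp.exists_le_sylow
  have hP0S : (P0 : Subgroup D) = S := by
    by_contra hne
    obtain ⟨x, hx, hxS⟩ := SetLike.exists_of_lt
      (Cfsg.Lib.Fusion.lt_inf_normalizer P0.isPGroup' (lt_of_le_of_ne hP0 (Ne.symm hne)))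
    obtain ⟨hxP, hxN⟩ := mem_inf.1 hx
    obtain ⟨y, rfl⟩ := hSn x hxN
    refine hxS ⟨y, ?_, rfl⟩
    obtain ⟨k, hk⟩ := P0.isPGroup' ⟨φ y, hxP⟩
    have h1 : y ^ 3 ^ k = 1 := hinj (by rw [map_pow, map_one]; exact congrArg Subtype.val hk)
    by_contra hy
    have hye : y.e = true := Bool.not_eq_false _ ▸ hy
    have hpw : ∀ n, (y ^ n).e = decide (Odd n) := by
      intro n
      induction n with
      | zero => rfl
      | succ j ih =>
        rw [pow_succ]
        show Bool.xor (y ^ j).e y.e = _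
        rw [ih, hye]
        rcases Nat.even_or_odd j with h | h <;> simp [h, Nat.odd_add_one]
    have h2 := hpw (3 ^ k)
    rw [h1, decide_eq_true (Odd.pow (by decide))] at h2
    exact Bool.false_ne_true h2
  have hP0E : (P0 : Subgroup D) ≤ E := by
    rw [hP0S]
    rintro _ ⟨y, hy, rfl⟩
    exact hPE y hy
  set PE := P0.subtype hP0E
  have hPEmem : ∀ x : E, x ∈ (PE : Subgroup E) ↔ (x : D) ∈ S := fun x => by rw [← hP0S]; rfl
  haveI : Fact (Nat.Prime 3) := ⟨Nat.prime_three⟩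
  set W := centerThompsonAOf (PE : Subgroup E)
  have hWle : W ≤ (PE : Subgroup E) := Local.GlaubermanZJ.centerThompsonAOf_le _
  have hWne : W ≠ ⊥ := Local.GlaubermanZJ.centerThompsonAOf_ne_bot PE.isPGroup' fun h => by
    have : (⟨_, hP0E (hP0S ▸ hj0)⟩ : E) ∈ (PE : Subgroup E) := (hPEmem _).2 hj0
    rw [h, mem_bot] at this
    have := hinj ((congrArg Subtype.val this).trans (map_one φ).symm)
    exact J_basis.2.2 this
  have hWn : ∀ g ∈ (PE : Subgroup E), ∀ x ∈ W, g * x * g⁻¹ ∈ W := by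
    intro g hg x hx
    have h := Local.GlaubermanZJ.map_centerThompsonAOf' (MulAut.conj g).toMonoidHom (PE : Subgroup E)
      (MulAut.conj g).injective.injOn
    have hmap : (PE : Subgroup E).map (MulAut.conj g).toMonoidHom = (PE : Subgroup E) := by
      refine eq_of_le_of_card_ge ?_ (by rw [Subgroup.card_map_of_injective (MulAut.conj g).injective])
      rintro _ ⟨y, hy, rfl⟩
      exact mul_mem (mul_mem hg hy) (inv_mem hg)
    rw [hmap] at h
    exact (le_of_eq h) ⟨x, hx, rfl⟩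
  obtain ⟨j, hj, hjW⟩ : ∃ j : ND, InJ j ∧ ∃ w ∈ W, (w : D) = φ j := by
    obtain ⟨w, hw, hw1⟩ := (Subgroup.bot_or_exists_ne_one W).resolve_left hWne
    obtain ⟨y, hy, hyw⟩ := (hPEmem w).1 (hWle hw)
    by_cases hyJ : InJ y
    · exact ⟨y, hyJ, w, hw, hyw.symm⟩
    have hy1 : y ≠ 1 := fun h => hw1 (Subtype.ext (by rw [← hyw, h, map_one]; rfl))
    refine ⟨_, comm_in_J y hy hyJ hy1, ?_⟩
    set b : E := ⟨φ ⟨Pi.single 0 1, 0, false⟩, hP0E (hP0S ▸ hj0)⟩
    refine ⟨w * (b * w⁻¹ * b⁻¹), mul_mem hw (hWn b ((hPEmem b).2 hj0) _ (inv_mem hw)), ?_⟩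
    simp only [Subgroup.coe_mul, Subgroup.coe_inv, map_mul, map_inv, ← hyw, b]
    group
  obtain ⟨w, hwW, hwj⟩ := hjW
  have hNW : IsPGroup 3 (normalizer (W : Set E)) := by
    refine PE.isPGroup'.to_le fun g hg => (hPEmem g).2 ?_
    have hgw := (hPEmem _).1 (hWle ((mem_normalizer_iff.1 hg w).1 hwW))
    obtain ⟨y, hy, hye⟩ := hgw
    have hgL : (g : D) ∈ L := hJ j hj g ⟨y, by rw [hye, ← hwj]; rfl⟩
    obtain ⟨k, hk⟩ := hgL
    exact ⟨k, hEL k (hk.symm ▸ g.2), hk⟩
  have hcompl := Local.GlaubermanZJ.complement_of_centerThompsonA (by norm_num) PE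
    (Fusion.hasNormalPComplement_of_isPGroup hNW)
  obtain ⟨K, hKn, hK⟩ := (Fusion.hasNormalPComplement_iff_exists PE).1 hcompl
  have hKc : (Nat.card K).Coprime 3 := by
    rw [Core.coprime_iff_not_dvd', ← hK.index_eq_card]
    exact PE.not_dvd_index
  have hKbot : K = ⊥ := by
    have h1 : K.map E.subtype ≤ Cfsg.pPrimeCore 3 D :=
      (Subgroup.map_mono (Core.le_pPrimeCore' hKn hKc)).trans
        (Core.pPrimeCore_map_le_of_isSubnormal (Subgroup.Normal.isSubnormal inferInstance))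
    rw [hcore, le_bot_iff] at h1
    exact (Subgroup.map_eq_bot_iff_of_injective K E.subtype_injective).1 h1
  have hEP : ∀ x ∈ E, x ∈ S := by
    intro x hx
    have htop := hK.sup_eq_top
    rw [hKbot, bot_sup_eq] at htop
    exact (hPEmem ⟨x, hx⟩).1 (htop ▸ mem_top _)
  refine eq_top_iff.2 fun g _ => ?_
  refine hJ _ J_basis g ?_
  obtain ⟨y, -, hy⟩ := hEP _ ((inferInstance : E.Normal).conj_mem _ (hPE _ (e_one _ J_basis)) g)
  exact ⟨y, hy⟩

end Cfsg.Lib.LFourThree
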