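import Cfsg.Agent.Lib.LFourThree.CaseOne.CentS
import Cfsg.Agent.Lib.LFourThree.CaseOne.Local162

/-!
# Case one: the centralisers of the mixed elements
-/

set_option autoImplicit false
set_option linter.unusedSectionVars false
set_option linter.style.haveILetI false

namespace Cfsg.Lib.LFourThree

open Subgroup Matrix

universe u

/-- The elements of the centraliser of a mixed element. -/
def eEl (k w1 w2 w3 c g : ZMod 3) (s : Bool) : Aff := ⟨![w1, w2, w3], cA c (k * w3) g s⟩

theorem eEl_mul (k a b w c g a' b' w' c' g' : ZMod 3) (s s' : Bool) :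
    eEl k a b w c g s * eEl k a' b' w' c' g' s' = eEl k (a + a' + c * w') (b + k * w * a' + sg s * b' + g * w')
      (w + sg s * w') (c' + c * sg s') (k * w * c' + sg s * g' + g * sg s') (Bool.xor s s') := by
  refine Aff.ext ?_ (Subtype.ext ?_)
  · funext i
    fin_cases i <;>
      simp [eEl, cA, Aff.mul_v, Matrix.mulVec, dotProduct, Fin.sum_univ_three, add_assoc] <;> ring
  · show (cA c (k * w) g s).1 * (cA c' (k * w') g' s').1 = _
    rw [cA_mul, show k * w + sg s * (k * w') = k * (w + sg s * w') by ring]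
    rfl

theorem eEl_one : ∀ k : ZMod 3, eEl k 0 0 0 0 0 false = 1 := by decide +kernel

theorem eEl_e : ∀ k : ZMod 3, Aff.mk ![k, 0, 0] (upU 0 0 1) = eEl k k 0 0 0 1 false := by decide +kernel

theorem eEl_tr : ∀ k a b : ZMod 3, eEl k a b 0 0 0 false = Aff.tr ![a, b, 0] := by decide +kernel

theorem cent_mixed {k : ZMod 3} (hk : k ≠ 0) {x : Aff}
    (h : x * Aff.mk ![k, 0, 0] (upU 0 0 1) = Aff.mk ![k, 0, 0] (upU 0 0 1) * x) :
    ∃ w1 w2 w3 c g s, x = eEl k w1 w2 w3 c g s := by
  have hA : x.A * upU 0 0 1 = upU 0 0 1 * x.A := congrArg Aff.A h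
  obtain ⟨u1, u2, c, d, g, s, hx⟩ := cent_trans (x := Aff.li x.A) (Aff.ext (by simp [Aff.mul_v]) hA)
  have hxA : x.A = cA c d g s := congrArg Aff.A hx
  have hv := congrFun (congrArg Aff.v h) 1
  simp [Aff.mul_v, Matrix.mulVec, dotProduct, Fin.sum_univ_three, hxA, cA, upU] at hv
  have hd : d = k * x.v 2 := by
    have h2 : ∀ k d y : ZMod 3, k ≠ 0 → d * k = y → d = k * y := by decide
    refine h2 k d (x.v 2) hk ?_
    linear_combination hv
  refine ⟨x.v 0, x.v 1, x.v 2, c, g, s, Aff.ext ?_ (by rw [hxA, hd]; rfl)⟩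
  funext i
  fin_cases i <;> rfl

namespace ND

/-- The total of the vector. -/
def cc (x : ND) : ZMod 3 := x.v 0 + x.v 1 + x.v 2

/-- Parameters in the centraliser. -/
def par (k : ZMod 3) (x : ND) : ZMod 3 × ZMod 3 × ZMod 3 × ZMod 3 × ZMod 3 × Bool :=
  (cc x * x.a, -k * (x.v 1 + x.v 2) + k * (x.v 2 - x.v 1) * x.a, x.a, sg x.e * cc x,
    sg x.e * (k * (x.v 2 - x.v 1)), x.e)

/-- The product of parameters. -/
def pmul (k : ZMod 3) : ZMod 3 × ZMod 3 × ZMod 3 × ZMod 3 × ZMod 3 × Bool →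
    ZMod 3 × ZMod 3 × ZMod 3 × ZMod 3 × ZMod 3 × Bool → ZMod 3 × ZMod 3 × ZMod 3 × ZMod 3 × ZMod 3 × Bool
  | (a, b, w, c, g, s), (a', b', w', c', g', s') => (a + a' + c * w', b + k * w * a' + sg s * b' + g * w',
      w + sg s * w', c' + c * sg s', k * w * c' + sg s * g' + g * sg s', Bool.xor s s')

/-- The parameters moved by a power of the mixed element. -/
def pshift (k : ZMod 3) (j : ZMod 3) : ZMod 3 × ZMod 3 × ZMod 3 × ZMod 3 × ZMod 3 × Bool →
    ZMod 3 × ZMod 3 × ZMod 3 × ZMod 3 × ZMod 3 × Bool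
  | (a, b, w, c, g, s) => (a + j * k, b + w * j, w, c, g + sg s * j, s)

/-- The shift in a product. -/
def pj (k : ZMod 3) (x y : ND) : ZMod 3 :=
  sg (x * y).e * ((pmul k (par k x) (par k y)).2.2.2.2.1 - (par k (x * y)).2.2.2.2.1)

/-- Generators: the basis, the rotation, the flip. -/
def gens : Fin 5 → ND :=
  ![⟨Pi.single 0 1, 0, false⟩, ⟨Pi.single 1 1, 0, false⟩, ⟨Pi.single 2 1, 0, false⟩, ⟨0, 1, false⟩, tau]

theorem par_mul_gen : ∀ k : ZMod 3, k ≠ 0 → ∀ (i : Fin 5) (x : ND),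
    pmul k (par k x) (par k (gens i)) = pshift k (pj k x (gens i)) (par k (x * gens i)) := by
  decide +kernel

theorem gens_split : ∀ x : ND, x = gens 0 ^ (x.v 0).val * gens 1 ^ (x.v 1).val * gens 2 ^ (x.v 2).val *
    gens 3 ^ x.a.val * (if x.e then gens 4 else 1) := by
  decide +kernel

theorem hom_of_gens {H : Type*} [Group H] (f : ND → H) (h1 : f 1 = 1)
    (hg : ∀ (i : Fin 5) (x : ND), f (x * gens i) = f x * f (gens i)) : ∀ x y, f (x * y) = f x * f y := by
  have key : ∀ y, (∀ x, f (x * y) = f x * f y) := by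
    have hmul : ∀ y z, (∀ x, f (x * y) = f x * f y) → (∀ x, f (x * z) = f x * f z) →
        ∀ x, f (x * (y * z)) = f x * f (y * z) := fun y z hy hz x => by
      rw [← mul_assoc, hz, hy, hz y, mul_assoc]
    have hone : ∀ x, f (x * 1) = f x * f 1 := fun x => by rw [mul_one, h1, mul_one]
    have hpow : ∀ (i : Fin 5) (n : ℕ), ∀ x, f (x * gens i ^ n) = f x * f (gens i ^ n) := by
      intro i n
      induction n with
      | zero => simpa using hone
      | succ m ih => rw [pow_succ]; exact hmul _ _ ih (hg i)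
    intro y
    rw [gens_split y]
    refine hmul _ _ (hmul _ _ (hmul _ _ (hmul _ _ (hpow _ _) (hpow _ _)) (hpow _ _)) (hpow _ _)) ?_
    split
    · exact hg 4
    · exact hone
  exact fun x y => key y x

theorem par_cover : ∀ k : ZMod 3, k ≠ 0 → ∀ a b w c g : ZMod 3, ∀ s : Bool,
    pshift k (k * (a - sg s * c * w))
      (par k ⟨![sg s * c + k * (b - w * sg s * g),
        k * ((b - w * sg s * g) + (sg s * g - k * (a - sg s * c * w))),
        k * ((b - w * sg s * g) - (sg s * g - k * (a - sg s * c * w)))], w, s⟩) = (a, b, w, c, g, s) := by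
  decide +kernel

theorem par_one_iff : ∀ k : ZMod 3, k ≠ 0 → ∀ (x : ND) (j : ZMod 3),
    par k x = pshift k j (0, 0, 0, 0, 0, false) → x = 1 := by
  decide +kernel

theorem cube_flip : ∀ x : ND, x * x * x = 1 → x.e = false := by decide +kernel

theorem cent_cases : ∀ y : ND, y.e = false → y ≠ 1 → ¬ (InJ y ∧ cc y = 0) →
    (∀ x : ND, x * y = y * x → x.a = 0 ∧ x.e = false) ∨
      (Finset.univ.filter fun x : ND => x * y = y * x).card < 27 := by
  decide +kernel

theorem cent_J : ∀ y : ND, InJ y → cc y ≠ 0 → ∀ x : ND, x * y = y * x → x.a = 0 ∧ x.e = false := by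
  decide +kernel

/-- The central element of the elements without flip. -/
def zc : ND := ⟨fun _ => 1, 0, false⟩

theorem zc_spec : InJ zc ∧ cc zc = 0 ∧ ∀ x : ND, x.e = false → x * zc = zc * x := by decide +kernel

theorem par_one : ∀ k : ZMod 3, par k 1 = (0, 0, 0, 0, 0, false) := by decide +kernel

theorem J_mul : ∀ x y : ND, x.a = 0 → x.e = false → y.a = 0 → y.e = false →
    (x * y).a = 0 ∧ (x * y).e = false ∧ x * y = y * x := by
  decide +kernel

theorem J_cube : ∀ x : ND, x.a = 0 → x.e = false → x ^ 3 = 1 := by decide +kernel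

theorem J_inv : ∀ x : ND, x.a = 0 → x.e = false → (x⁻¹).a = 0 ∧ (x⁻¹).e = false := by decide +kernel

theorem card_J : (Finset.univ.filter fun x : ND => x.a = 0 ∧ x.e = false).card = 27 := by decide +kernel

theorem pure_J : ∀ k : ZMod 3, k ≠ 0 → ∀ x : ND, InJ x → cc x = 0 → ∃ a b : ZMod 3,
    (a ≠ 0 ∨ b ≠ 0) ∧ pshift k (-(k * (x.v 2 - x.v 1))) (par k x) = (a, b, 0, 0, 0, false) := by
  decide +kernel

theorem J_of_plane : ∀ k : ZMod 3, k ≠ 0 → ∀ a b : ZMod 3, ∃ x : ND, x.a = 0 ∧ x.e = false ∧ ∃ j,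
    pshift k j (par k x) = (a, b, 0, 0, 0, false) := by
  decide +kernel

end ND

namespace One

variable {G : Type u} [Group G] [Finite G] (O : One G)

/-- The pure plane in the centraliser. -/
noncomputable def B12 : Subgroup G where
  carrier := {g | ∃ a b : ZMod 3, O.F.pt O.T ![a, b, 0] = g}
  one_mem' := ⟨0, 0, by rw [show (![0, 0, 0] : V3) = 0 by decide, O.F.pt_zero]⟩
  mul_mem' := by
    rintro _ _ ⟨a, b, rfl⟩ ⟨a', b', rfl⟩
    exact ⟨a + a', b + b', by rw [← O.F.pt_add]; simp⟩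
  inv_mem' := by
    rintro _ ⟨a, b, rfl⟩
    refine ⟨-a, -b, (inv_eq_of_mul_eq_one_right ?_).symm⟩
    rw [← O.F.pt_add, show (![a, b, 0] : V3) + ![-a, -b, 0] = 0 by
      funext i; fin_cases i <;> simp, O.F.pt_zero]

theorem B12_le : O.B12 ≤ O.F.V1 := by
  rintro _ ⟨a, b, rfl⟩
  exact O.F.pt_mem O.T _

theorem card_B12 : Nat.card O.B12 = 9 := by
  rw [show 9 = Nat.card (ZMod 3 × ZMod 3) by simp]
  refine (Nat.card_eq_of_bijective (fun p => ⟨_, p.1, p.2, rfl⟩) ⟨fun p q h => ?_, ?_⟩).symm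
  · have h' := O.F.pt_injective O.T (congrArg Subtype.val h)
    exact Prod.ext (congrFun h' 0) (congrFun h' 1)
  · rintro ⟨_, a, b, rfl⟩
    exact ⟨(a, b), rfl⟩

/-- The mixed element. -/
noncomputable abbrev me (k : ZMod 3) : G := O.af ⟨![k, 0, 0], upU 0 0 1⟩

set_option maxHeartbeats 1600000 in
theorem cent_e_le {k : ZMod 3} (hk : k ≠ 0) {g : G} (hg : g * O.me k = O.me k * g) : g ∈ O.N := by
  classical
  set X : Subgroup G := centralizer ({O.me k} : Set G) with hX
  have hmem : ∀ a b w c g s, O.af (eEl k a b w c g s) ∈ X := by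
    intro a b w c g s
    refine mem_centralizer_singleton_iff.2 ?_
    rw [me, eEl_e, ← map_mul, ← map_mul, eEl_mul, eEl_mul]
    have h2 : ∀ k : ZMod 3, k ≠ 0 → k * k = 1 := by decide
    congr 2 <;> cases s <;> simp [sg] <;> first | ring1 | linear_combination w * h2 k hk | linear_combination -w * h2 k hk
  let el : ZMod 3 × ZMod 3 × ZMod 3 × ZMod 3 × ZMod 3 × Bool → X :=
    fun p => ⟨_, hmem p.1 p.2.1 p.2.2.1 p.2.2.2.1 p.2.2.2.2.1 p.2.2.2.2.2⟩
  have hel : ∀ p q, el p * el q = el (ND.pmul k p q) := by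
    rintro ⟨a, b, w, c, g, s⟩ ⟨a', b', w', c', g', s'⟩
    exact Subtype.ext (by
      show O.af _ * O.af _ = O.af _
      rw [← map_mul, eEl_mul]; rfl)
  set e' : X := el (k, 0, 0, 0, 1, false) with he'
  set Z := zpowers e' with hZdef
  have he'v : (e' : G) = O.me k := by
    rw [he', me, eEl_e]
  have hZc : Z ≤ center X := zpowers_le.2 (mem_center_iff.2 fun y => Subtype.ext (by
    rw [Subgroup.coe_mul, Subgroup.coe_mul, he'v]
    exact mem_centralizer_singleton_iff.1 y.2))
  haveI : Z.Normal := ⟨fun x hx y => by rw [mem_center_iff.1 (hZc hx) y, mul_inv_cancel_right]; exact hx⟩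
  have hshift : ∀ p, el p * e' = el (ND.pshift k 1 p) := by
    rintro ⟨a, b, w, c, g, s⟩
    rw [he', hel]
    congr 1
    have h2 : ∀ k : ZMod 3, k ≠ 0 → k * k = 1 := by decide
    simp only [ND.pmul, ND.pshift, sg, Bool.xor_false]
    refine Prod.ext (by simp) (Prod.ext ?_ (Prod.ext (by simp) (Prod.ext (by simp) (Prod.ext (by simp [sg, add_comm]) rfl))))
    simp
    linear_combination w * h2 k hk
  have hone : el (0, 0, 0, 0, 0, false) = 1 := Subtype.ext (by show O.af _ = 1; rw [eEl_one, map_one])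
  have hpow : ∀ (n : ℕ) p, el p * e' ^ n = el (ND.pshift k n p) := by
    intro n
    induction n with
    | zero =>
      rintro ⟨a, b, w, c, g, s⟩
      simp [ND.pshift]
    | succ m ih =>
      rintro ⟨a, b, w, c, g, s⟩
      rw [pow_succ, ← mul_assoc, ih, hshift]
      congr 1
      simp only [ND.pshift, Nat.cast_add, Nat.cast_one]
      ring_nf
  set f := QuotientGroup.mk' Z
  have hfe : f e' = 1 := (QuotientGroup.eq_one_iff _).2 (mem_zpowers _)
  have hfshift : ∀ j p, f (el (ND.pshift k j p)) = f (el p) := by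
    intro j p
    have h := congrArg f (hpow j.val p)
    rwa [map_mul, map_pow, hfe, one_pow, mul_one, ZMod.natCast_zmod_val, eq_comm] at h
  let φ : ND →* X ⧸ Z := MonoidHom.mk' (fun x => f (el (ND.par k x))) (ND.hom_of_gens
    (fun x => f (el (ND.par k x))) (by beta_reduce; rw [ND.par_one, hone, map_one])
    fun i x => by beta_reduce; rw [← map_mul, hel, ND.par_mul_gen k hk, hfshift])
  have hφ : ∀ x, φ x = f (el (ND.par k x)) := fun _ => rfl
  have hinj : Function.Injective φ := by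
    refine (injective_iff_map_eq_one φ).2 fun x hx => ?_
    obtain ⟨n, hn⟩ := mem_powers_iff_mem_zpowers.2 ((QuotientGroup.eq_one_iff _).1 hx)
    refine ND.par_one_iff k hk x n ?_
    have h := hpow n (0, 0, 0, 0, 0, false)
    rw [hone, one_mul, show e' ^ n = el (ND.par k x) from hn] at h
    have h' := O.af_injective (congrArg Subtype.val h)
    have hv := congrArg Aff.v h'
    have hA := congrArg (fun y : Aff => y.A.1) h'
    have h0 := congrFun hv 0
    have h1 := congrFun hv 1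
    have h2 := congrFun hv 2
    have a02 := congrFun (congrFun hA 0) 2
    have a12 := congrFun (congrFun hA 1) 2
    have a22 := congrFun (congrFun hA 2) 2
    simp [eEl, cA] at h0 h1 h2 a02 a12 a22
    have hs : ∀ s s', sg s = sg s' → s = s' := by decide
    exact Prod.ext h0 (Prod.ext h1 (Prod.ext h2 (Prod.ext a02 (Prod.ext a12 (hs _ _ a22)))))
  have hN : ∀ x : X, f x ∈ φ.range ↔ (x : G) ∈ O.N := by
    intro x
    constructor
    · rintro ⟨y, hy⟩
      obtain ⟨j, hj⟩ : (el (ND.par k y))⁻¹ * x ∈ Z := (QuotientGroup.eq_one_iff _).1 (by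
        show f ((el (ND.par k y))⁻¹ * x) = 1
        rw [map_mul, map_inv, ← hφ, hy, inv_mul_cancel])
      rw [show x = el (ND.par k y) * e' ^ j by rw [show e' ^ j = _ from hj, mul_inv_cancel_left],
        Subgroup.coe_mul, Subgroup.coe_zpow, he'v]
      exact mul_mem (O.af_mem _) (zpow_mem (O.af_mem _) _)
    · intro hx
      obtain ⟨a, ha⟩ := O.exists_af hx
      obtain ⟨w1, w2, w3, c, g, s, rfl⟩ := cent_mixed hk (x := a) (O.af_injective (by
        rw [map_mul, map_mul, ha]; exact mem_centralizer_singleton_iff.1 x.2))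
      have h := ND.par_cover k hk w1 w2 w3 c g s
      have h' := congrArg (fun p => f (el p)) h
      beta_reduce at h'
      rw [hfshift] at h'
      exact ⟨_, (hφ _).trans (h'.trans (congrArg f (Subtype.ext ha)))⟩
  have hB : O.B12 ≤ X := by
    rintro _ ⟨a, b, rfl⟩
    rw [← O.af_tr, ← eEl_tr k]
    exact hmem _ _ _ _ _ _
  -- a conjugate of a pure image inside the image comes from the image
  have hpure : ∀ j, ND.InJ j → ND.cc j = 0 → ∀ h : X ⧸ Z, h * φ j * h⁻¹ ∈ φ.range → h ∈ φ.range := by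
    intro j hj hc h hh
    obtain ⟨y, rfl⟩ := QuotientGroup.mk'_surjective Z h
    obtain ⟨a, b, hab, e⟩ := ND.pure_J k hk j hj hc
    rw [hφ, ← hfshift (-(k * (j.v 2 - j.v 1))), e, ← map_mul, ← map_inv, ← map_mul, hN] at hh
    refine (hN y).2 (O.conj_mem (b := O.af (eEl k a b 0 0 0 false)) (O.af_mem_V1.2 (by rw [eEl_tr]))
      (fun h1 => ?_) hh)
    have h2 := congrArg Aff.v (O.af_injective (h1.trans (map_one O.af).symm))
    have e0 := congrFun h2 0
    have e1 := congrFun h2 1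
    simp [eEl, Aff.one_v] at e0 e1
    tauto
  -- the image of the elementary subgroup
  let R : Subgroup (X ⧸ Z) :=
    { carrier := {h | ∃ x : ND, x.a = 0 ∧ x.e = false ∧ φ x = h}
      one_mem' := ⟨1, rfl, rfl, map_one φ⟩
      mul_mem' := by
        rintro _ _ ⟨x, x1, x2, rfl⟩ ⟨y, y1, y2, rfl⟩
        obtain ⟨h1, h2, -⟩ := ND.J_mul x y x1 x2 y1 y2
        exact ⟨x * y, h1, h2, map_mul φ x y⟩
      inv_mem' := by
        rintro _ ⟨x, x1, x2, rfl⟩
        obtain ⟨h1, h2⟩ := ND.J_inv x x1 x2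
        exact ⟨x⁻¹, h1, h2, map_inv φ x⟩ }
  have hRc : Nat.card R = 27 := by
    rw [← ND.card_J, ← Fintype.card_subtype, ← Nat.card_eq_fintype_card]
    refine (Nat.card_eq_of_bijective (fun x : {x : ND // x.a = 0 ∧ x.e = false} =>
      (⟨φ x, x, x.2.1, x.2.2, rfl⟩ : R)) ⟨fun x y e => Subtype.ext (hinj (congrArg Subtype.val e)), ?_⟩).symm
    rintro ⟨_, x, x1, x2, rfl⟩
    exact ⟨⟨x, x1, x2⟩, rfl⟩
  have hcent : ∀ j, ND.InJ j → ND.cc j ≠ 0 → centralizer ({φ j} : Set (X ⧸ Z)) = R := by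
    intro j hj hc
    haveI : Fact (Nat.Prime 3) := ⟨Nat.prime_three⟩
    set C := centralizer ({φ j} : Set (X ⧸ Z))
    have hRC : R ≤ C := by
      rintro _ ⟨x, x1, x2, rfl⟩
      exact mem_centralizer_singleton_iff.2 (by
        rw [← map_mul, ← map_mul, (ND.J_mul x j x1 x2 hj.1 hj.2.1).2.2])
    have hnR : ∀ h ∈ C, h ∈ normalizer (R : Set (X ⧸ Z)) → h ∈ R := by
      intro h hhC hhN
      obtain ⟨z1, -, -, hz1⟩ := (mem_normalizer_iff.1 hhN _).1 ⟨ND.zc, ND.zc_spec.1.1, ND.zc_spec.1.2.1, rfl⟩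
      obtain ⟨x, rfl⟩ := hpure _ ND.zc_spec.1 ND.zc_spec.2.1 h ⟨z1, hz1⟩
      obtain ⟨h1, h2⟩ := ND.cent_J j hj hc x (hinj (by
        rw [map_mul, map_mul]; exact mem_centralizer_singleton_iff.1 hhC))
      exact ⟨x, h1, h2, rfl⟩
    have hRp : IsPGroup 3 R := IsPGroup.of_card (n := 3) (hRc.trans (by norm_num))
    obtain ⟨P, hP⟩ := IsPGroup.exists_le_sylow (hRp.comap_subtype (K := C))
    have hPR : (P : Subgroup C) = R.subgroupOf C := by
      by_contra hne
      obtain ⟨x, hx, hxR⟩ := SetLike.exists_of_lt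
        (Cfsg.Lib.Fusion.lt_inf_normalizer P.isPGroup' (lt_of_le_of_ne hP (Ne.symm hne)))
      refine hxR (mem_subgroupOf.2 (hnR x x.2 (mem_normalizer_iff.2 fun y => ⟨fun hy => ?_, fun hy => ?_⟩)))
      · exact mem_subgroupOf.1 ((mem_normalizer_iff.1 (mem_inf.1 hx).2 ⟨y, hRC hy⟩).1 (mem_subgroupOf.2 hy))
      · have hyC : y ∈ C := by
          have := mul_mem (mul_mem (inv_mem x.2) (hRC hy)) x.2
          simpa [mul_assoc] using this
        exact mem_subgroupOf.1 ((mem_normalizer_iff.1 (mem_inf.1 hx).2 ⟨y, hyC⟩).2 (mem_subgroupOf.2 hy))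
    haveI : IsMulCommutative (P : Subgroup C) := ⟨⟨fun a b => by
      obtain ⟨xa, a1, a2, ha⟩ := mem_subgroupOf.1 ((le_of_eq hPR) a.2)
      obtain ⟨xb, b1, b2, hb⟩ := mem_subgroupOf.1 ((le_of_eq hPR) b.2)
      refine Subtype.ext (Subtype.ext ?_)
      show ((a : C) : X ⧸ Z) * ((b : C) : X ⧸ Z) = ((b : C) : X ⧸ Z) * ((a : C) : X ⧸ Z)
      rw [← ha, ← hb, ← map_mul, ← map_mul, (ND.J_mul xa xb a1 a2 b1 b2).2.2]⟩⟩
    have hburn : normalizer ((P : Subgroup C) : Set C) ≤ centralizer ((P : Subgroup C) : Set C) := by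
      intro x hx
      have hxR : (x : X ⧸ Z) ∈ R := by
        refine hnR x x.2 (mem_normalizer_iff.2 fun y => ⟨fun hy => ?_, fun hy => ?_⟩)
        · exact mem_subgroupOf.1 (hPR ▸ (mem_normalizer_iff.1 hx ⟨y, hRC hy⟩).1 (hPR ▸ mem_subgroupOf.2 hy))
        · have hyC : y ∈ C := by
            have := mul_mem (mul_mem (inv_mem x.2) (hRC hy)) x.2
            simpa [mul_assoc] using this
          exact mem_subgroupOf.1 (hPR ▸ (mem_normalizer_iff.1 hx ⟨y, hyC⟩).2 (hPR ▸ mem_subgroupOf.2 hy))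
      have hxP : x ∈ (P : Subgroup C) := hPR ▸ mem_subgroupOf.2 hxR
      exact mem_centralizer_iff.2 fun a ha =>
        congrArg Subtype.val (mul_comm' (⟨a, ha⟩ : (P : Subgroup C)) ⟨x, hxP⟩)
    obtain ⟨K, hKn, hK⟩ : ∃ K : Subgroup C, K.Normal ∧ K.IsComplement' (P : Subgroup C) :=
      ⟨_, inferInstance, MonoidHom.ker_transferSylow_isComplement' P hburn⟩
    have hKc : (Nat.card K).Coprime 3 := by
      rw [Core.coprime_iff_not_dvd', ← hK.index_eq_card]
      exact P.not_dvd_index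
    -- the complement lifts to a signalizer
    set M : Subgroup X := C.comap f
    let π : M →* C := (f.comp M.subtype).codRestrict C fun x => x.2
    have hπs : Function.Surjective π := by
      rintro ⟨y, hy⟩
      obtain ⟨x, rfl⟩ := QuotientGroup.mk'_surjective Z y
      exact ⟨⟨x, hy⟩, rfl⟩
    have hZ3 : Nat.card Z = 3 := by
      rw [hZdef, Nat.card_zpowers]
      refine orderOf_eq_prime ?_ fun h => ?_
      · have e3 := hpow 3 (0, 0, 0, 0, 0, false)
        rw [hone, one_mul] at e3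
        rw [e3, show ((3 : ℕ) : ZMod 3) = 0 from rfl]
        simp [ND.pshift, hone]
      · have e0 := congrArg Subtype.val h
        rw [he'v] at e0
        have e1 := congrArg (fun y : Aff => y.v 0) (O.af_injective (e0.trans (map_one O.af).symm))
        simp [Aff.one_v] at e1
        exact hk e1
    set Zm : Subgroup M := Z.subgroupOf M
    have hZM : Z ≤ M := fun x hx => by
      show f x ∈ C
      rw [show f x = 1 from (QuotientGroup.eq_one_iff x).2 hx]
      exact one_mem _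
    have hZmc : Zm ≤ center M := fun x hx => mem_center_iff.2 fun y =>
      Subtype.ext (mem_center_iff.1 (hZc (mem_subgroupOf.1 hx)) y)
    haveI : Zm.Normal := inferInstance
    let q : M ⧸ Zm →* C := QuotientGroup.lift Zm π fun x hx => Subtype.ext
      ((QuotientGroup.eq_one_iff _).2 (mem_subgroupOf.1 hx))
    have hqb : Function.Bijective q := by
      refine ⟨(injective_iff_map_eq_one q).2 fun x hx => ?_, fun y => ?_⟩
      · induction x using QuotientGroup.induction_on with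
        | H m => exact (QuotientGroup.eq_one_iff m).2 (mem_subgroupOf.2
            ((QuotientGroup.eq_one_iff _).1 (congrArg Subtype.val hx)))
      · obtain ⟨m, rfl⟩ := hπs y
        exact ⟨m, rfl⟩
    obtain ⟨L0, hL0n, hL0c, hL0⟩ := lift_coprime Zm hZmc
      ((Nat.card_congr (subgroupOfEquivOfLe hZM).toEquiv).trans hZ3) (K.comap q)
      (by rw [show Nat.card (K.comap q) = Nat.card K from
            Nat.card_congr ((Equiv.ofBijective q hqb).subtypeEquiv fun _ => Iff.rfl)]
          exact hKc)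
    have hbot : (L0.map M.subtype).map X.subtype = ⊥ := O.F.signalizer O.B12_le O.card_B12
      (by rw [Subgroup.card_map_of_injective X.subtype_injective, Subgroup.card_map_of_injective M.subtype_injective]
          exact hL0c) (by
      rintro b hb _ ⟨_, ⟨l, hl, rfl⟩, rfl⟩
      have hbX := hB hb
      have hbM : (⟨b, hbX⟩ : X) ∈ M := by
        obtain ⟨a', b', rfl⟩ := hb
        obtain ⟨x, x1, x2, i, hi⟩ := ND.J_of_plane k hk a' b'
        show f _ ∈ C
        refine hRC ⟨x, x1, x2, ?_⟩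
        rw [hφ, ← hfshift i, hi]
        exact congrArg f (Subtype.ext (by show O.af (eEl k a' b' 0 0 0 false) = _; rw [eEl_tr, O.af_tr]))
      exact ⟨_, ⟨_, hL0n.conj_mem l hl ⟨_, hbM⟩, rfl⟩, rfl⟩)
    have hKbot : K = ⊥ := by
      have h1 := (Subgroup.map_eq_bot_iff_of_injective _ M.subtype_injective).1
        ((Subgroup.map_eq_bot_iff_of_injective _ X.subtype_injective).1 hbot)
      rw [h1, Subgroup.map_bot] at hL0
      rw [← Subgroup.map_comap_eq_self_of_surjective hqb.2 K, ← hL0, Subgroup.map_bot]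
    have htop := hK.sup_eq_top
    rw [hKbot, bot_sup_eq, hPR] at htop
    exact le_antisymm (subgroupOf_eq_top.1 htop) hRC
  have hJ : ∀ j, ND.InJ j → ∀ h : X ⧸ Z, h * φ j * h⁻¹ ∈ φ.range → h ∈ φ.range := by
    intro j hj h hh
    by_cases hc : ND.cc j = 0
    · exact hpure j hj hc h hh
    obtain ⟨y, hy⟩ := hh
    have hy3 : y * y * y = 1 := hinj (by
      rw [map_mul, map_mul, hy, map_one, show h * φ j * h⁻¹ * (h * φ j * h⁻¹) * (h * φ j * h⁻¹) =
        h * (φ j * φ j * φ j) * h⁻¹ by group, ← map_mul, ← map_mul]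
      rw [show j * j * j = j ^ 3 by simp [pow_succ], ND.J_cube j hj.1 hj.2.1, map_one]; simp)
    have hy1 : y ≠ 1 := fun e => hj.2.2 (hinj (by
      rw [e, map_one] at hy
      rw [map_one]
      exact conj_eq_one_iff.1 hy.symm))
    have hye := ND.cube_flip y hy3
    by_cases hyJ : ND.InJ y ∧ ND.cc y = 0
    · have := hpure y hyJ.1 hyJ.2 h⁻¹ ⟨j, by rw [hy]; group⟩
      simpa using inv_mem this
    -- the conjugated centraliser lies in the image
    have hR' : ∀ r ∈ R, ∃ x : ND, φ x = h * r * h⁻¹ ∧ x * y = y * x := by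
      intro r hr
      have hz : φ ND.zc ∈ centralizer ({φ y} : Set (X ⧸ Z)) := mem_centralizer_singleton_iff.2 (by
        rw [← map_mul, ← map_mul, (ND.zc_spec.2.2 y hye).symm])
      have hzR : h⁻¹ * φ ND.zc * h ∈ R := by
        rw [← hcent j hj hc]
        refine mem_centralizer_singleton_iff.2 ?_
        have e := mem_centralizer_singleton_iff.1 hz
        rw [hy] at e
        calc h⁻¹ * φ ND.zc * h * φ j = h⁻¹ * (φ ND.zc * (h * φ j * h⁻¹)) * h := by group
          _ = _ := by rw [e]; group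
      obtain ⟨x1, a1, b1, hx1⟩ := hzR
      obtain ⟨x2, a2, b2, rfl⟩ := hr
      have hcom : h * φ x2 * h⁻¹ * φ ND.zc * (h * φ x2 * h⁻¹)⁻¹ = φ ND.zc := by
        calc h * φ x2 * h⁻¹ * φ ND.zc * (h * φ x2 * h⁻¹)⁻¹
            = h * (φ x2 * (h⁻¹ * φ ND.zc * h) * (φ x2)⁻¹) * h⁻¹ := by group
          _ = φ ND.zc := by
              rw [← hx1, ← map_mul, (ND.J_mul x2 x1 a2 b2 a1 b1).2.2, map_mul, mul_inv_cancel_right, hx1]; group
      obtain ⟨x, hx⟩ := hpure _ ND.zc_spec.1 ND.zc_spec.2.1 (h * φ x2 * h⁻¹) (by rw [hcom]; exact ⟨_, rfl⟩)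
      refine ⟨x, hx, hinj ?_⟩
      have e2 : φ x2 * φ j = φ j * φ x2 := by rw [← map_mul, ← map_mul, (ND.J_mul x2 j a2 b2 hj.1 hj.2.1).2.2]
      rw [map_mul, map_mul, hx, hy]
      calc h * φ x2 * h⁻¹ * (h * φ j * h⁻¹) = h * (φ x2 * φ j) * h⁻¹ := by group
        _ = _ := by rw [e2]; group
    rcases ND.cent_cases y hye hy1 hyJ with hcy | hcy
    · have hconj : ∀ r ∈ R, h * r * h⁻¹ ∈ R := fun r hr => by
        obtain ⟨x, hx, hxy⟩ := hR' r hr
        exact ⟨x, (hcy x hxy).1, (hcy x hxy).2, hx⟩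
      obtain ⟨x, -, -, hx⟩ := hconj _ ⟨ND.zc, ND.zc_spec.1.1, ND.zc_spec.1.2.1, rfl⟩
      exact hpure _ ND.zc_spec.1 ND.zc_spec.2.1 h ⟨x, hx⟩
    · exfalso
      choose u hu hu' using fun r : R => hR' r r.2
      haveI := Fintype.ofFinite R
      have hle : Fintype.card R ≤ (Finset.univ.filter fun x : ND => x * y = y * x).card := by
        rw [← Finset.card_univ]
        refine Finset.card_le_card_of_injOn u (fun r _ => ?_) fun r _ r' _ e => ?_
        · simp [hu' r]
        · have e' := (hu r).symm.trans ((congrArg φ e).trans (hu r'))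
          exact Subtype.ext (mul_left_cancel (mul_right_cancel e'))
      rw [← Nat.card_eq_fintype_card, hRc] at hle
      omega
  have hZ3 : Nat.card Z = 3 := by
    rw [hZdef, Nat.card_zpowers]
    haveI : Fact (Nat.Prime 3) := ⟨Nat.prime_three⟩
    refine orderOf_eq_prime ?_ fun h => ?_
    · have e3 := hpow 3 (0, 0, 0, 0, 0, false)
      rw [hone, one_mul] at e3
      rw [e3, show ((3 : ℕ) : ZMod 3) = 0 from rfl]
      simp [ND.pshift, hone]
    · have e0 := congrArg Subtype.val h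
      rw [he'v] at e0
      have e1 := congrArg (fun y : Aff => y.v 0) (O.af_injective (e0.trans (map_one O.af).symm))
      simp [Aff.one_v] at e1
      exact hk e1
  have htop := nd_top φ hinj hJ (quot_core_bot Z hZc hZ3 (O.core_bot O.B12_le O.card_B12 hB))
  exact (hN ⟨g, mem_centralizer_singleton_iff.2 hg⟩).1 (htop ▸ mem_top _)

end One

end Cfsg.Lib.LFourThree
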