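import Cfsg.Agent.Lib.LFourThree.CaseOne.Tools

/-!
# Case one: the centraliser of a transvection of the complement
-/

set_option autoImplicit false
set_option linter.unusedSectionVars false
set_option linter.style.haveILetI false

namespace Cfsg.Lib.LFourThree

open Subgroup Matrix

universe u

/-- A sign. -/
def sg (e : Bool) : ZMod 3 := if e then -1 else 1

/-- The linear parts of the centraliser of the transvection. -/
def cA (c d g : ZMod 3) (e : Bool) : SL33 :=
  ⟨!![1, 0, c; d, sg e, g; 0, 0, sg e], by revert c d g e; decide +kernel⟩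

theorem cA_mul : ∀ (c d g c' d' g' : ZMod 3) (e e' : Bool), (cA c d g e).1 * (cA c' d' g' e').1 =
    (cA (c' + c * sg e') (d + sg e * d') (d * c' + sg e * g' + g * sg e') (Bool.xor e e')).1 := by
  intro c d g c' d' g' e e'
  ext i j
  fin_cases i <;> fin_cases j <;> cases e <;> cases e' <;> simp [cA, sg, Matrix.mul_apply, Fin.sum_univ_three] <;>
    ring

/-- The elements of the centraliser. -/
def cEl (w1 w2 c d g : ZMod 3) (e : Bool) : Aff := ⟨![w1, w2, 0], cA c d g e⟩

theorem cEl_mul (w1 w2 c d g w1' w2' c' d' g' : ZMod 3) (e e' : Bool) :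
    cEl w1 w2 c d g e * cEl w1' w2' c' d' g' e' = cEl (w1 + w1') (w2 + d * w1' + sg e * w2') (c' + c * sg e')
      (d + sg e * d') (d * c' + sg e * g' + g * sg e') (Bool.xor e e') := by
  refine Aff.ext ?_ (Subtype.ext ?_)
  · funext i
    fin_cases i <;>
      simp [cEl, cA, Aff.mul_v, Matrix.mulVec, dotProduct, Fin.sum_univ_three, add_assoc]
    ring
  · exact cA_mul c d g c' d' g' e e'

theorem cEl_one : cEl 0 0 0 0 0 false = 1 := by decide +kernel

theorem cEl_t : cEl 0 0 0 0 0 true = Aff.li dT := by decide +kernel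

theorem cEl_tr : ∀ a b : ZMod 3, cEl a b 0 0 0 false = Aff.tr ![a, b, 0] := by decide +kernel

theorem cEl_inj {w1 w2 c d g w1' w2' c' d' g' : ZMod 3} {e e' : Bool}
    (h : cEl w1 w2 c d g e = cEl w1' w2' c' d' g' e') :
    w1 = w1' ∧ w2 = w2' ∧ c = c' ∧ d = d' ∧ g = g' ∧ sg e = sg e' := by
  have hv := congrArg Aff.v h
  have hA := congrArg (fun y : Aff => y.A.1) h
  have h0 := congrFun hv 0
  have h1 := congrFun hv 1
  have a02 := congrFun (congrFun hA 0) 2
  have a10 := congrFun (congrFun hA 1) 0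
  have a12 := congrFun (congrFun hA 1) 2
  have a11 := congrFun (congrFun hA 1) 1
  simp [cEl, cA] at h0 h1 a02 a10 a12 a11
  exact ⟨h0, h1, a02, a10, a12, a11⟩

theorem sg_true : sg true = -1 := rfl

theorem sg_false : sg false = 1 := rfl

theorem neg_one_ne : (-1 : ZMod 3) ≠ 1 := by decide

theorem one_add_one_ne : ¬ (1 : ZMod 3) + 1 = 0 := by decide

theorem no_gen : ∀ b c n m : ZMod 3, 1 = n * b → 0 = n * c → 0 = m * b → 1 = m * c → False := by decide

theorem zmul_two : ∀ a : Multiplicative (ZMod 3), a * a = 1 → a = 1 := by decide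

theorem cEl_cube : ∀ w1 w2 c d g : ZMod 3, (cEl w1 w2 c d g false) ^ 3 = 1 := by
  intro w1 w2 c d g
  have h3 : ∀ a : ZMod 3, a + a + a = 0 := by decide
  rw [pow_succ, pow_two, cEl_mul, cEl_mul]
  simp only [sg_false, Bool.xor_false, one_mul, mul_one]
  rw [← cEl_one]
  congr 1
  · exact h3 w1
  · linear_combination h3 w2 + h3 (d * w1)
  · linear_combination h3 c
  · linear_combination h3 d
  · linear_combination h3 g + h3 (d * c)

theorem cent_trans {x : Aff} (h : x * Aff.li (upU 0 0 1) = Aff.li (upU 0 0 1) * x) :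
    ∃ w1 w2 c d g e, x = cEl w1 w2 c d g e := by
  obtain ⟨v, A⟩ := x
  have hv := congrArg Aff.v h
  have hA := congrArg (fun y : Aff => y.A.1) h
  simp only [Aff.mul_v, Matrix.mulVec_zero, add_zero, zero_add] at hv
  simp only [Aff.mul_A, Matrix.SpecialLinearGroup.coe_mul] at hA
  have e : ∀ i j, (A.1 * (upU 0 0 1).1) i j = ((upU 0 0 1).1 * A.1) i j := fun i j => by rw [hA]
  have v1 := congrFun hv 1
  simp [upU, Matrix.mulVec, dotProduct, Fin.sum_univ_three] at v1
  have e02 := e 0 2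
  have e10 := e 1 0
  have e11 := e 1 1
  have e12 := e 1 2
  simp [upU, Matrix.mul_apply, Fin.sum_univ_three] at e02 e10 e11 e12
  have hdet := A.2
  rw [Matrix.det_fin_three] at hdet
  have k01 : A.1 0 1 = 0 := by grind
  have k20 : A.1 2 0 = 0 := by grind
  have k21 : A.1 2 1 = 0 := by grind
  have k22 : A.1 2 2 = A.1 1 1 := by grind
  rw [k01, k20, k21, k22] at hdet
  simp only [mul_zero, zero_mul, sub_zero, add_zero] at hdet
  have hu : ∀ a f : ZMod 3, a * f * f = 1 → a = 1 ∧ (f = 1 ∨ f = -1) := by decide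
  obtain ⟨k00, hf⟩ := hu _ _ hdet
  obtain ⟨s, hs⟩ : ∃ s, sg s = A.1 1 1 := by
    rcases hf with h | h
    · exact ⟨false, h.symm⟩
    · exact ⟨true, h.symm⟩
  refine ⟨v 0, v 1, A.1 0 2, A.1 1 0, A.1 1 2, s, Aff.ext ?_ (Subtype.ext ?_)⟩
  · funext i
    fin_cases i <;> simp [cEl, v1]
  · ext i j
    fin_cases i <;> fin_cases j <;> simp [cEl, cA, hs, k01, k20, k21, k22, k00]

namespace One

variable {G : Type u} [Group G] [Finite G] (O : One G)

/-- The transvection. -/
noncomputable abbrev sv : G := O.af (Aff.li (upU 0 0 1))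

theorem cEl_s : Aff.li (upU 0 0 1) = cEl 0 0 0 0 1 false := by decide +kernel

theorem cEl_mem (w1 w2 c d g : ZMod 3) (e : Bool) :
    O.af (cEl w1 w2 c d g e) ∈ centralizer ({O.sv} : Set G) := by
  refine mem_centralizer_singleton_iff.2 ?_
  rw [sv, cEl_s, ← map_mul, ← map_mul, cEl_mul, cEl_mul]
  congr 2 <;> cases e <;> simp [sg] <;> ring

theorem cent_param {g : G} (hg : g ∈ centralizer ({O.sv} : Set G)) (hN : g ∈ O.N) :
    ∃ w1 w2 c d g' e, O.af (cEl w1 w2 c d g' e) = g := by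
  obtain ⟨y, rfl⟩ := O.exists_af hN
  obtain ⟨w1, w2, c, d, g', e, hy⟩ := cent_trans (x := y) (O.af_injective (by
    rw [map_mul, map_mul]; exact mem_centralizer_singleton_iff.1 hg))
  exact ⟨w1, w2, c, d, g', e, by rw [hy]⟩

/-- The kernel of the first coordinate, without signs. -/
noncomputable def sR : Subgroup G where
  carrier := {g | ∃ w2 c d g', O.af (cEl 0 w2 c d g' false) = g}
  one_mem' := ⟨0, 0, 0, 0, by rw [cEl_one, map_one]⟩
  mul_mem' := by
    rintro _ _ ⟨w2, c, d, g, rfl⟩ ⟨w2', c', d', g', rfl⟩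
    refine ⟨w2 + w2', c' + c, d + d', d * c' + g' + g, ?_⟩
    rw [← map_mul, cEl_mul]
    simp [sg_false]
  inv_mem' := by
    rintro _ ⟨w2, c, d, g, rfl⟩
    refine ⟨w2 + w2, c + c, d + d, d * c + g + g, eq_inv_of_mul_eq_one_left ?_⟩
    rw [← map_mul, cEl_mul, ← map_one O.af, ← cEl_one]
    simp only [sg_false, Bool.xor_false, one_mul, mul_one, mul_zero, add_zero]
    have h3 : ∀ a : ZMod 3, a + a + a = 0 := by decide
    congr 2
    · exact h3 w2
    · linear_combination h3 c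
    · exact h3 d
    · linear_combination h3 g + h3 (d * c)

theorem cent_s_le {g : G} (hg : g * O.sv = O.sv * g) : g ∈ O.N := by
  set X : Subgroup G := centralizer ({O.sv} : Set G) with hX
  have hgX : g ∈ X := mem_centralizer_singleton_iff.2 hg
  -- the first coordinate
  set M := O.N.subgroupOf X
  have hco : ∀ x : M, ∃ y : Aff, O.af y = ((x : X) : G) := fun x => O.exists_af (mem_subgroupOf.1 x.2)
  choose co hco using hco
  have hcv : ∀ (x : M) (w1 w2 c d g : ZMod 3) (e : Bool), O.af (cEl w1 w2 c d g e) = ((x : X) : G) →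
      (co x).v 0 = w1 := fun x w1 w2 c d g e h => by
    rw [O.af_injective ((hco x).trans h.symm)]; rfl
  let φ : M →* Multiplicative (ZMod 3) := MonoidHom.mk' (fun x => Multiplicative.ofAdd ((co x).v 0)) fun x y => by
    obtain ⟨a, b, c, d, g, e, hx⟩ := O.cent_param (x : X).2 (mem_subgroupOf.1 x.2)
    obtain ⟨a', b', c', d', g', e', hy⟩ := O.cent_param (y : X).2 (mem_subgroupOf.1 y.2)
    have hxy := cEl_mul a b c d g a' b' c' d' g' e e'
    rw [← ofAdd_add, hcv x _ _ _ _ _ _ hx, hcv y _ _ _ _ _ _ hy,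
      hcv (x * y) _ _ _ _ _ _ ((congrArg O.af hxy).symm.trans (by rw [map_mul, hx, hy]; rfl))]
  set V := MonoidHom.transfer φ
  let el : ZMod 3 → ZMod 3 → ZMod 3 → ZMod 3 → ZMod 3 → Bool → X := fun a b c d g e =>
    ⟨O.af (cEl a b c d g e), O.cEl_mem a b c d g e⟩
  have helm : ∀ a b c d g a' b' c' d' g' e e', el a b c d g e * el a' b' c' d' g' e' = el (a + a')
      (b + d * a' + sg e * b') (c' + c * sg e') (d + sg e * d') (d * c' + sg e * g' + g * sg e') (Bool.xor e e') :=
    fun a b c d g a' b' c' d' g' e e' => Subtype.ext (by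
      show O.af _ * O.af _ = O.af _
      rw [← map_mul, cEl_mul])
  have hzV : (el 1 0 0 0 0 false : G) ∈ O.F.V1 := O.af_mem_V1.2 (by decide +kernel)
  have hz1 : (el 1 0 0 0 0 false : G) ≠ 1 := fun h => by
    have e := O.af_injective (h.trans (map_one O.af).symm)
    exact absurd (congrArg (fun y : Aff => y.v 0) e) (by decide +kernel)
  have hVz : V (el 1 0 0 0 0 false) = Multiplicative.ofAdd 1 := by
    rw [O.transfer_plane φ hzV hz1]
    exact congrArg Multiplicative.ofAdd (hcv _ 1 0 0 0 0 false rfl)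
  have hVs : V (el 0 0 0 0 1 false) = 1 := by
    have e : el 0 0 0 1 0 false * el 0 0 1 0 0 false = el 0 0 1 0 0 false * el 0 0 0 1 0 false * el 0 0 0 0 1 false := by
      rw [helm, helm, helm]; simp [sg]
    have e' := congrArg V e
    rw [map_mul, map_mul, map_mul, mul_comm (V (el 0 0 1 0 0 false))] at e'
    exact (mul_eq_left.1 e'.symm)
  have hV0 : ∀ b c d g, V (el 0 b c d g false) = 1 := by
    intro b c d g
    have hsk : ∀ k, V (el 0 0 0 0 k false) = 1 := by
      intro k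
      have h1 : el 0 0 0 0 0 false = 1 := Subtype.ext (by show O.af _ = 1; rw [cEl_one, map_one])
      have h2 : el 0 0 0 0 2 false = el 0 0 0 0 1 false * el 0 0 0 0 1 false := by
        rw [helm]; simp [sg]; rfl
      have hk : k = 0 ∨ k = 1 ∨ k = 2 := by revert k; decide
      rcases hk with rfl | rfl | rfl
      · rw [h1, map_one]
      · exact hVs
      · rw [h2, map_mul, hVs, one_mul]
    have e : el 0 0 0 0 0 true * el 0 b c d g false * el 0 0 0 0 0 true * el 0 b c d g false =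
        el 0 0 0 0 (-(d * c) + g * 2) false := by
      rw [helm, helm, helm]
      simp only [sg_true, sg_false, Bool.xor_false, Bool.xor_true, Bool.not_true, Bool.not_false]
      congr 1 <;> ring_nf
    have e' := congrArg V e
    rw [hsk, map_mul, map_mul, map_mul] at e'
    have ht : V (el 0 0 0 0 0 true) * V (el 0 0 0 0 0 true) = 1 := by
      rw [← map_mul, helm]
      simp only [mul_zero, add_zero, zero_mul, Bool.xor_self]
      exact hsk 0
    rw [mul_assoc, mul_mul_mul_comm, ht, one_mul] at e'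
    exact zmul_two _ e'
  set Y := V.ker.map X.subtype with hY
  have hYX : Y ≤ X := map_subtype_le _
  have hVt : V (el 0 0 0 0 0 true) = 1 := zmul_two _ (by
    rw [← map_mul, helm]
    simp only [mul_zero, add_zero, zero_mul, Bool.xor_self]
    exact hV0 0 0 0 0)
  have hVel : ∀ a b c d g e, V (el a b c d g e) = Multiplicative.ofAdd a := by
    intro a b c d g e
    have hk : ∀ k, V (el k 0 0 0 0 false) = Multiplicative.ofAdd k := by
      intro k
      have h2 : el 2 0 0 0 0 false = el 1 0 0 0 0 false * el 1 0 0 0 0 false := by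
        rw [helm]; simp [sg]; rfl
      have hk : k = 0 ∨ k = 1 ∨ k = 2 := by revert k; decide
      rcases hk with rfl | rfl | rfl
      · exact hV0 0 0 0 0
      · exact hVz
      · rw [h2, map_mul, hVz]; rfl
    have e1 : el a b c d g e = el a 0 0 0 0 false * el 0 b (c * sg e) d (g * sg e) false * el 0 0 0 0 0 e := by
      rw [helm, helm]
      congr 1 <;> cases e <;> simp [sg]
    rw [e1, map_mul, map_mul, hk, hV0]
    cases e
    · rw [hV0, mul_one, mul_one]
    · rw [hVt, mul_one, mul_one]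
  have hsRY : O.sR ≤ Y := by
    rintro _ ⟨b, c, d, g, rfl⟩
    exact ⟨el 0 b c d g false, hV0 b c d g, rfl⟩
  have hsRN : O.sR ≤ O.N := by
    rintro _ ⟨b, c, d, g, rfl⟩
    exact O.af_mem _
  have hbR : O.af (cEl 0 1 0 0 0 false) ∈ O.sR := ⟨1, 0, 0, 0, rfl⟩
  have hbV : O.af (cEl 0 1 0 0 0 false) ∈ O.F.V1 := O.af_mem_V1.2 (by decide +kernel)
  have hb1 : O.af (cEl 0 1 0 0 0 false) ≠ 1 := fun h => by
    have e := O.af_injective (h.trans (map_one O.af).symm)
    exact absurd (congrArg (fun y : Aff => y.v 1) e) (by decide +kernel)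
  -- the elements of the kernel inside the normaliser
  have hYN : ∀ x ∈ Y, x ∈ O.N → ∃ b c d g e, O.af (cEl 0 b c d g e) = x := by
    rintro _ ⟨x, hx, rfl⟩ hN
    obtain ⟨a, b, c, d, g, e, he⟩ := O.cent_param x.2 hN
    have h := hVel a b c d g e
    rw [show el a b c d g e = x from Subtype.ext he, MonoidHom.mem_ker.1 hx] at h
    have ha : a = 0 := (Multiplicative.ofAdd.injective (h.trans rfl : Multiplicative.ofAdd 0 = Multiplicative.ofAdd a)).symm
    subst ha
    exact ⟨b, c, d, g, e, he⟩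
  have hp : IsPGroup 3 O.sR := by
    rintro ⟨_, b, c, d, g, rfl⟩
    exact ⟨1, Subtype.ext (by simp [← map_pow, cEl_cube])⟩
  obtain ⟨P, hP⟩ := O.sylow_of_N (X := Y) hsRY hsRN hp hbR hbV hb1 (by
    rintro x hxY hxN ⟨k, hk⟩ -
    obtain ⟨b, c, d, g, e, rfl⟩ := hYN x hxY hxN
    cases e
    · exact ⟨b, c, d, g, rfl⟩
    · exfalso
      have hpow : ∀ n, ∀ y : Aff, (y ^ n).A.1 2 2 = (y.A ^ n).1 2 2 := by
        intro n y
        have : (y ^ n).A = y.A ^ n := by
          induction n with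
          | zero => rfl
          | succ m ih => rw [pow_succ, pow_succ, Aff.mul_A, ih]
        rw [this]
      have h22 : ∀ n, ((cA c d g true) ^ n).1 2 2 = (-1) ^ n ∧ ((cA c d g true) ^ n).1 2 0 = 0 ∧
          ((cA c d g true) ^ n).1 2 1 = 0 := by
        intro n
        induction n with
        | zero => simp
        | succ m ih =>
          obtain ⟨i1, i2, i3⟩ := ih
          rw [pow_succ, Matrix.SpecialLinearGroup.coe_mul]
          simp only [Matrix.mul_apply, Fin.sum_univ_three, i1, i2, i3]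
          simp [cA, sg, pow_succ]
      have h1 : (cEl 0 b c d g true) ^ 3 ^ k = 1 := O.af_injective (by rw [map_pow, hk, map_one])
      have h2 := hpow (3 ^ k) (cEl 0 b c d g true)
      rw [h1] at h2
      rw [show (cEl 0 b c d g true).A = cA c d g true from rfl, (h22 _).1] at h2
      rw [Odd.neg_one_pow (Odd.pow (by decide))] at h2
      exact neg_one_ne (h2.symm.trans rfl))
  -- the quotient by the transvection
  set s' : Y := ⟨O.sv, hsRY ⟨0, 0, 0, 1, by rw [sv, cEl_s]⟩⟩ with hs'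
  set Z := zpowers s' with hZdef
  have hZc : Z ≤ center Y := zpowers_le.2 (mem_center_iff.2 fun y => Subtype.ext
    (mem_centralizer_singleton_iff.1 (hYX y.2)))
  haveI : Z.Normal := ⟨fun x hx y => by rw [mem_center_iff.1 (hZc hx) y, mul_inv_cancel_right]; exact hx⟩
  have hZ3 : Nat.card Z = 3 := by
    rw [hZdef, Nat.card_zpowers]
    refine orderOf_eq_prime (Subtype.ext ?_) fun h => ?_
    · show O.sv ^ 3 = 1
      rw [sv, cEl_s, ← map_pow, cEl_cube, map_one]
    · have e := congrArg Subtype.val h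
      rw [hs'] at e
      have e' := O.af_injective ((show O.af (Aff.li (upU 0 0 1)) = 1 from e).trans (map_one O.af).symm)
      exact absurd e' (by decide +kernel)
  have hcore : Cfsg.pPrimeCore 3 Y = ⊥ := by
    have hn : (Y.subgroupOf X).Normal := by
      rw [hY, Subgroup.subgroupOf, Subgroup.comap_map_eq_self_of_injective X.subtype_injective]
      infer_instance
    let B : Subgroup G := Subgroup.map O.af
      { carrier := {y | ∃ a b, y = cEl a b 0 0 0 false}
        one_mem' := ⟨0, 0, cEl_one.symm⟩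
        mul_mem' := by
          rintro _ _ ⟨a, b, rfl⟩ ⟨a', b', rfl⟩
          exact ⟨a + a', b + b', by rw [cEl_mul]; simp [sg]⟩
        inv_mem' := by
          rintro _ ⟨a, b, rfl⟩
          refine ⟨-a, -b, inv_eq_of_mul_eq_one_right ?_⟩
          rw [cEl_mul, ← cEl_one]; simp [sg] }
    have hBV : B ≤ O.F.V1 := by
      rintro _ ⟨_, ⟨a, b, rfl⟩, rfl⟩
      exact O.af_mem_V1.2 (by rw [cEl_tr])
    have hBX : B ≤ X := by
      rintro _ ⟨_, ⟨a, b, rfl⟩, rfl⟩
      exact O.cEl_mem a b 0 0 0 false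
    have hB9 : Nat.card B = 9 := by
      rw [Subgroup.card_map_of_injective O.af_injective, show 9 = Nat.card (ZMod 3 × ZMod 3) by simp]
      refine (Nat.card_eq_of_bijective (fun p => ⟨_, p.1, p.2, rfl⟩) ⟨fun p q h => ?_, ?_⟩).symm
      · obtain ⟨h1, h2, -⟩ := cEl_inj (congrArg Subtype.val h)
        exact Prod.ext h1 h2
      · rintro ⟨_, a, b, rfl⟩
        exact ⟨(a, b), rfl⟩
    have h := Core.pPrimeCore_map_le_of_normal (p := 3) hYX hn
    rw [O.core_bot hBV hB9 hBX, Subgroup.map_bot, le_bot_iff] at h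
    exact (Subgroup.map_eq_bot_iff_of_injective _ Y.subtype_injective).1 h
  set f := QuotientGroup.mk' Z
  set Pb := P.mapSurjective (QuotientGroup.mk'_surjective Z) with hPb
  have hPbc : (Pb : Subgroup (Y ⧸ Z)) = (P : Subgroup Y).map f := rfl
  let ey : ZMod 3 → ZMod 3 → ZMod 3 → ZMod 3 → Y := fun b c d g =>
    ⟨O.af (cEl 0 b c d g false), hsRY ⟨b, c, d, g, rfl⟩⟩
  have hPmem : ∀ x ∈ (Pb : Subgroup (Y ⧸ Z)), ∃ b c d g, f (ey b c d g) = x := by
    rw [hPbc]
    rintro _ ⟨x, hx, rfl⟩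
    rw [hP] at hx
    obtain ⟨b, c, d, g, hbx⟩ := mem_subgroupOf.1 hx
    exact ⟨b, c, d, g, congrArg f (Subtype.ext hbx)⟩
  have hPmem' : ∀ b c d g, f (ey b c d g) ∈ (Pb : Subgroup (Y ⧸ Z)) := fun b c d g => by
    rw [hPbc]
    exact ⟨_, hP ▸ mem_subgroupOf.2 ⟨b, c, d, g, rfl⟩, rfl⟩
  have hfs : ∀ k, f (ey 0 0 0 k) = 1 := by
    intro k
    refine (QuotientGroup.eq_one_iff _).2 ⟨(k.val : ℤ), Subtype.ext ?_⟩
    show O.sv ^ (k.val : ℤ) = O.af (cEl 0 0 0 0 k false)
    have hp2 : cEl 0 0 0 0 1 false * cEl 0 0 0 0 1 false = cEl 0 0 0 0 2 false := by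
      rw [cEl_mul]; simp [sg]; rfl
    rw [zpow_natCast, sv, cEl_s, ← map_pow]
    have hk : k = 0 ∨ k = 1 ∨ k = 2 := by revert k; decide
    rcases hk with rfl | rfl | rfl
    · rw [ZMod.val_zero, pow_zero, cEl_one]
    · rw [ZMod.val_one, pow_one]
    · rw [show (2 : ZMod 3).val = 2 from rfl, pow_two, hp2]
  have heym : ∀ b c d g b' c' d' g', ey b c d g * ey b' c' d' g' =
      ey (b + b') (c + c') (d + d') (d * c' + g + g') := fun b c d g b' c' d' g' => Subtype.ext (by
    show O.af _ * O.af _ = O.af _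
    rw [← map_mul, cEl_mul]
    simp only [sg_false, mul_zero, add_zero, one_mul, mul_one, Bool.xor_false]
    congr 2 <;> ring)
  have hg0 : ∀ b c d g, f (ey b c d g) = f (ey b c d 0) := fun b c d g => by
    have e := heym b c d 0 0 0 0 g
    simp only [add_zero, mul_zero, zero_add] at e
    rw [← e, map_mul, hfs, mul_one]
  have hcomm : ∀ a ∈ (Pb : Subgroup (Y ⧸ Z)), ∀ b ∈ (Pb : Subgroup (Y ⧸ Z)), a * b = b * a := by
    intro x hx y hy
    obtain ⟨b, c, d, g, rfl⟩ := hPmem x hx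
    obtain ⟨b', c', d', g', rfl⟩ := hPmem y hy
    rw [← map_mul, ← map_mul, heym, heym, hg0, hg0 (b' + b), add_comm b, add_comm c, add_comm d]
  -- the elements of the normaliser of the Sylow subgroup
  have hlift : ∀ n ∈ normalizer ((Pb : Subgroup (Y ⧸ Z)) : Set (Y ⧸ Z)), ∀ y : Y, f y = n →
      (y : G) ∈ O.N := by
    intro n hn y hy
    have h := (mem_normalizer_iff.1 hn _).1 (hPmem' 1 0 0 0)
    obtain ⟨b, c, d, g, e⟩ := hPmem _ h
    rw [← hy, ← map_inv, ← map_mul, ← map_mul] at e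
    obtain ⟨k, hk⟩ : (ey b c d g)⁻¹ * (y * ey 1 0 0 0 * y⁻¹) ∈ Z :=
      (QuotientGroup.eq_one_iff _).1 (by
        show f ((ey b c d g)⁻¹ * (y * ey 1 0 0 0 * y⁻¹)) = 1
        rw [map_mul, map_inv, e, inv_mul_cancel])
    refine O.conj_mem hbV hb1 ?_
    have e2 : (y : G) * O.af (cEl 0 1 0 0 0 false) * (y : G)⁻¹ = O.af (cEl 0 b c d g false) * O.sv ^ k := by
      have e3 := congrArg (fun w : Y => (w : G)) hk
      simp only [hs', Subgroup.coe_zpow, Subgroup.coe_mul, Subgroup.coe_inv] at e3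
      rw [e3]; simp [ey]
    rw [e2]
    exact mul_mem (O.af_mem _) (zpow_mem (O.af_mem _) _)
  have hform : ∀ n ∈ normalizer ((Pb : Subgroup (Y ⧸ Z)) : Set (Y ⧸ Z)), ∃ b c d g, ∃ e : Bool,
      ∃ y : Y, f y = n ∧ O.af (cEl 0 b c d g e) = y := by
    intro n hn
    obtain ⟨y, rfl⟩ := QuotientGroup.mk'_surjective Z n
    obtain ⟨b, c, d, g, e, he⟩ := hYN y y.2 (hlift _ hn y rfl)
    exact ⟨b, c, d, g, e, y, rfl, he⟩
  have hinvert : ∀ (b c d g : ZMod 3) (y : Y), O.af (cEl 0 b c d g true) = y →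
      ∀ b' c' d' g', f y * f (ey b' c' d' g') * (f y)⁻¹ = (f (ey b' c' d' g'))⁻¹ := by
    intro b c d g y hy b' c' d' g'
    have e : ∃ k, ey b' c' d' g' * y * ey b' c' d' g' = y * ey 0 0 0 k := by
      refine ⟨-(d' * c' + d * c' + d' * c - g' - g'), Subtype.ext ?_⟩
      show O.af _ * (y : G) * O.af _ = (y : G) * O.af _
      rw [← hy, ← map_mul, ← map_mul, ← map_mul, cEl_mul, cEl_mul, cEl_mul]
      simp only [sg_true, sg_false, Bool.xor_false, Bool.xor_true, Bool.not_false]
      congr 2 <;> ring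
    obtain ⟨k, hk⟩ := e
    have hk' := congrArg f hk
    rw [map_mul, map_mul, map_mul, hfs, mul_one] at hk'
    rw [mul_inv_eq_iff_eq_mul, eq_inv_mul_iff_mul_eq, ← mul_assoc]
    exact hk'
  have hker : ∀ b c d g, f (ey b c d g) = 1 → b = 0 ∧ c = 0 := by
    intro b c d g h
    obtain ⟨n, hn⟩ := mem_powers_iff_mem_zpowers.2 ((QuotientGroup.eq_one_iff _).1 h)
    have hpw : ∀ n : ℕ, (cEl 0 0 0 0 1 false) ^ n = cEl 0 0 0 0 (n : ZMod 3) false := by
      intro n
      induction n with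
      | zero => rw [pow_zero, Nat.cast_zero, cEl_one]
      | succ m ih => rw [pow_succ, ih, cEl_mul]; simp [sg, add_comm]
    have e : O.sv ^ n = O.af (cEl 0 b c d g false) := congrArg Subtype.val hn
    rw [sv, cEl_s, ← map_pow, hpw] at e
    obtain ⟨-, h2, h3, -⟩ := cEl_inj (O.af_injective e)
    exact ⟨h2.symm, h3.symm⟩
  have hinj : ∀ b c d g b' c' d' g', f (ey b c d g) = f (ey b' c' d' g') → b = b' ∧ c = c' := by
    intro b c d g b' c' d' g' h
    have h1 := congrArg (· * f (ey (-b') (-c') (-d') 0)) h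
    simp only [← map_mul, heym] at h1
    rw [hg0 (b' + -b'), hg0 (b + -b'), add_neg_cancel, add_neg_cancel, add_neg_cancel, hfs] at h1
    obtain ⟨h2, h3⟩ := hker _ _ _ _ h1
    exact ⟨eq_neg_of_add_eq_zero_left h2 |>.trans (neg_neg _), eq_neg_of_add_eq_zero_left h3 |>.trans (neg_neg _)⟩
  have hnc : ¬ IsCyclic (Pb : Subgroup (Y ⧸ Z)) := by
    intro hc
    obtain ⟨⟨x, hx⟩, hgen⟩ := hc.exists_generator
    obtain ⟨b, c, d, g, rfl⟩ := hPmem x hx
    have hmul : ∀ n : ℕ, ∃ d' g', f (ey b c d g) ^ n = f (ey (n * b) (n * c) d' g') := by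
      intro n
      induction n with
      | zero =>
        refine ⟨0, 0, ?_⟩
        rw [pow_zero, Nat.cast_zero, zero_mul, zero_mul, hfs]
      | succ m ih =>
        obtain ⟨d', g', e⟩ := ih
        refine ⟨d' + d, d' * c + g' + g, ?_⟩
        rw [pow_succ, e, ← map_mul, heym]
        push_cast
        ring_nf
    have key : ∀ b' c', ∃ n : ℕ, b' = n * b ∧ c' = n * c := by
      intro b' c'
      obtain ⟨n, hn⟩ := mem_powers_iff_mem_zpowers.2 (hgen ⟨_, hPmem' b' c' 0 0⟩)
      obtain ⟨d', g', e⟩ := hmul n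
      exact ⟨n, hinj _ _ _ _ _ _ _ _ ((congrArg Subtype.val hn).symm.trans e)⟩
    obtain ⟨n, h1, h2⟩ := key 1 0
    obtain ⟨m, h3, h4⟩ := key 0 1
    exact no_gen b c _ _ h1 h2 h3 h4
  have htY : ∃ y : Y, O.af (cEl 0 0 0 0 0 true) = y :=
    ⟨⟨_, el 0 0 0 0 0 true, hVt, rfl⟩, rfl⟩
  obtain ⟨yt, hyt⟩ := htY
  have hinv' : ∀ x ∈ (Pb : Subgroup (Y ⧸ Z)), f yt * x * (f yt)⁻¹ = x⁻¹ := by
    intro x hx
    obtain ⟨b, c, d, g, rfl⟩ := hPmem x hx
    exact hinvert 0 0 0 0 yt hyt b c d g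
  have hyt2 : f yt * f yt = 1 := by
    rw [← map_mul, show yt * yt = (1 : Y) from Subtype.ext (by
      show (yt : G) * (yt : G) = 1
      rw [← hyt, ← map_mul, cEl_mul, ← map_one O.af, ← cEl_one]
      simp [sg]), map_one]
  have htop := st_factor Pb hcomm hnc (fun n hn => by
      obtain ⟨b, c, d, g, e, y, rfl, hy⟩ := hform n hn
      cases e
      · refine Or.inl (mem_centralizer_iff.2 fun x hx => hcomm x hx _ ?_)
        rw [show y = ey b c d g from Subtype.ext hy.symm]
        exact hPmem' b c d g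
      · refine Or.inr fun x hx => ?_
        obtain ⟨b', c', d', g', rfl⟩ := hPmem x hx
        exact hinvert b c d g y hy b' c' d' g')
    ⟨f yt, mem_normalizer_iff.2 fun x => ⟨fun hx => (hinv' x hx).symm ▸ inv_mem hx, fun hx => by
      have h := hinv' _ hx
      rw [show f yt * (f yt * x * (f yt)⁻¹) * (f yt)⁻¹ = (f yt * f yt) * x * (f yt * f yt)⁻¹ by group, hyt2,
        one_mul, inv_one, mul_one] at h
      exact h ▸ inv_mem hx⟩, fun h => by
      have h1 := mem_centralizer_iff.1 h _ (hPmem' 1 0 0 0)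
      have h2 := hinv' _ (hPmem' 1 0 0 0)
      rw [← h1, mul_inv_cancel_right] at h2
      have h3 : f (ey 1 0 0 0) * f (ey 1 0 0 0) = 1 := by nth_rw 1 [h2]; rw [inv_mul_cancel]
      rw [← map_mul, heym, hg0] at h3
      exact absurd (hker _ _ _ _ h3).1 one_add_one_ne⟩
  rw [quot_core_bot Z hZc hZ3 hcore, sup_bot_eq] at htop
  have hYle : Y ≤ O.N := fun y hy => hlift (f ⟨y, hy⟩) (htop ▸ mem_top _) ⟨y, hy⟩ rfl
  set k := Multiplicative.toAdd (V ⟨g, hgX⟩) with hk
  have hmem : (⟨g, hgX⟩ : X) * (el k 0 0 0 0 false)⁻¹ ∈ V.ker := by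
    rw [MonoidHom.mem_ker, map_mul, map_inv, hVel, hk, ofAdd_toAdd, mul_inv_cancel]
  have h := mul_mem (hYle ⟨_, hmem, rfl⟩) (O.af_mem (cEl k 0 0 0 0 false))
  simpa [el] using h

end One

end Cfsg.Lib.LFourThree
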