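import Cfsg.Agent.Lib.LFourThree.CaseOne.CentE
import Cfsg.Agent.Lib.Coprime.Generation

/-!
# Case one: the centraliser of the involution
-/

set_option autoImplicit false
set_option linter.unusedSectionVars false
set_option linter.style.haveILetI false

namespace Cfsg.Lib.LFourThree

open Subgroup Matrix

universe u

/-- The normaliser of the Sylow subgroup in the centraliser of the involution. -/
def tEl (i g : ZMod 3) (p q : Bool) : Aff :=
  ⟨![i, 0, 0], ⟨!![sg p, 0, 0; 0, sg q, g; 0, 0, sg p * sg q], by revert g p q; decide +kernel⟩⟩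

theorem sylT_mul : ∀ i l i' l' : ZMod 3, Aff.mk ![i, 0, 0] (upU 0 0 l) * Aff.mk ![i', 0, 0] (upU 0 0 l') =
    Aff.mk ![i + i', 0, 0] (upU 0 0 (l + l')) := by
  decide +kernel

theorem sylT_one : Aff.mk ![0, 0, 0] (upU 0 0 0) = (1 : Aff) := by decide +kernel

theorem zmod3_thrice : ∀ a : ZMod 3, a + a + a = 0 := by decide

theorem zmod3_cases : ∀ a : ZMod 3, a = 0 ∨ a = 1 ∨ a = 2 := by decide

theorem sg_eq_one : ∀ b : Bool, (1 : ZMod 3) = sg b → b = false := by decide

theorem li_upU : Aff.li (upU 0 0 1) = Aff.mk ![0, 0, 0] (upU 0 0 1) := by decide +kernel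

theorem sylT_t : ∀ i l : ZMod 3, Aff.mk ![i, 0, 0] (upU 0 0 l) * Aff.li dT =
    Aff.li dT * Aff.mk ![i, 0, 0] (upU 0 0 l) := by
  decide +kernel

theorem tEl_t : ∀ (i g : ZMod 3) (p q : Bool), tEl i g p q * Aff.li dT = Aff.li dT * tEl i g p q := by
  decide +kernel

theorem tEl_conj : ∀ (i g : ZMod 3) (p q : Bool) (j l : ZMod 3),
    tEl i g p q * Aff.mk ![j, 0, 0] (upU 0 0 l) = Aff.mk ![sg p * j, 0, 0] (upU 0 0 (sg p * l)) * tEl i g p q := by
  decide +kernel

theorem norm_cent_t {x : Aff} (ht : x * Aff.li dT = Aff.li dT * x) {j l : ZMod 3}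
    (hn : x * Aff.li (upU 0 0 1) = Aff.mk ![j, 0, 0] (upU 0 0 l) * x) :
    ∃ i g p q, x = tEl i g p q := by
  obtain ⟨v, A⟩ := x
  have hv := congrArg Aff.v ht
  have hA := congrArg (fun y : Aff => y.A.1) ht
  have hS := congrArg (fun y : Aff => y.A.1) hn
  simp only [Aff.mul_v, Matrix.mulVec_zero, add_zero, zero_add] at hv
  simp only [Aff.mul_A, Matrix.SpecialLinearGroup.coe_mul] at hA hS
  have e : ∀ a b, (A.1 * dT.1) a b = (dT.1 * A.1) a b := fun a b => by rw [hA]
  have s : ∀ a b, (A.1 * (upU 0 0 1).1) a b = ((upU 0 0 l).1 * A.1) a b := fun a b => by rw [hS]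
  have h2 : ∀ y : ZMod 3, y = -y → y = 0 := by decide
  have v1 := congrFun hv 1
  have v2 := congrFun hv 2
  simp [dT, Matrix.mulVec, dotProduct, Fin.sum_univ_three] at v1 v2
  have e01 := e 0 1
  have e02 := e 0 2
  have e10 := e 1 0
  have e20 := e 2 0
  simp [dT, Matrix.mul_apply, Fin.sum_univ_three] at e01 e02 e10 e20
  have s22 := s 2 2
  simp [upU, Matrix.mul_apply, Fin.sum_univ_three] at s22
  have k01 : A.1 0 1 = 0 := by grind
  have k02 : A.1 0 2 = 0 := by grind
  have k10 : A.1 1 0 = 0 := by grind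
  have k20 : A.1 2 0 = 0 := by grind
  have k21 : A.1 2 1 = 0 := by grind
  have hdet := A.2
  rw [Matrix.det_fin_three] at hdet
  rw [k01, k02, k10, k20, k21] at hdet
  simp only [mul_zero, zero_mul, sub_zero, add_zero] at hdet
  have hu : ∀ a f h : ZMod 3, a * f * h = 1 → ∃ p q, sg p = a ∧ sg q = f ∧ sg p * sg q = h := by decide +kernel
  obtain ⟨p, q, hp, hq, hh⟩ := hu _ _ _ hdet
  refine ⟨v 0, A.1 1 2, p, q, Aff.ext ?_ (Subtype.ext ?_)⟩
  · funext a
    have w1 : v 1 = 0 := h2 _ v1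
    have w2 : v 2 = 0 := h2 _ v2
    fin_cases a <;> simp [tEl, w1, w2]
  · ext a b
    fin_cases a <;> fin_cases b <;> simp [tEl, k01, k02, k10, k20, k21, hp, hq, hh.symm]

namespace One

variable {G : Type u} [Group G] [Finite G] (O : One G)

/-- The Sylow subgroup of the centraliser of the involution. -/
noncomputable def sylT : Subgroup G where
  carrier := {g | ∃ i l, O.af ⟨![i, 0, 0], upU 0 0 l⟩ = g}
  one_mem' := ⟨0, 0, by rw [sylT_one, map_one]⟩
  mul_mem' := by
    rintro _ _ ⟨i, l, rfl⟩ ⟨i', l', rfl⟩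
    exact ⟨i + i', l + l', by rw [← map_mul, sylT_mul]⟩
  inv_mem' := by
    rintro _ ⟨i, l, rfl⟩
    refine ⟨-i, -l, (inv_eq_of_mul_eq_one_right ?_).symm⟩
    rw [← map_mul, sylT_mul, add_neg_cancel, add_neg_cancel, sylT_one, map_one]

theorem cent_t_le {g : G} (hg : g * O.T.t = O.T.t * g) : g ∈ O.N := by
  haveI : Fact (Nat.Prime 3) := ⟨Nat.prime_three⟩
  set X : Subgroup G := centralizer ({O.T.t} : Set G) with hX
  have hsX : O.sylT ≤ X := by
    rintro _ ⟨i, l, rfl⟩
    refine mem_centralizer_singleton_iff.2 ?_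
    rw [← O.af_t, ← map_mul, ← map_mul, sylT_t]
  have hsN : O.sylT ≤ O.N := by
    rintro _ ⟨i, l, rfl⟩
    exact O.af_mem _
  have hp : IsPGroup 3 O.sylT := by
    rintro ⟨_, i, l, rfl⟩
    refine ⟨1, Subtype.ext ?_⟩
    show O.af _ ^ (3 ^ 1) = 1
    rw [pow_one, pow_succ, pow_two, ← map_mul, ← map_mul, sylT_mul, sylT_mul, zmod3_thrice, zmod3_thrice, sylT_one, map_one]
  have hzR : O.F.z ∈ O.sylT := ⟨1, 0, by
    rw [← O.af_z]
    exact congrArg _ (Aff.ext rfl (Subtype.ext (by ext a b; fin_cases a <;> fin_cases b <;> rfl)))⟩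
  have hzV := O.F.isPlane_V1.z_mem
  have hzne := O.F.D.z_ne
  -- the normaliser
  have hform : ∀ x ∈ X, x ∈ normalizer (O.sylT : Set G) → ∃ i g p q, O.af (tEl i g p q) = x := by
    intro x hxX hxn
    obtain ⟨y, rfl⟩ := O.exists_af (O.normalizer_le hsN hzR hzV hzne hxn)
    obtain ⟨j, l, e⟩ := (mem_normalizer_iff.1 hxn _).1
      (⟨0, 1, rfl⟩ : O.af ⟨![0, 0, 0], upU 0 0 1⟩ ∈ O.sylT)
    have ht : y * Aff.li dT = Aff.li dT * y := O.af_injective (by
      rw [map_mul, map_mul, O.af_t]; exact mem_centralizer_singleton_iff.1 hxX)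
    have hli : Aff.li (upU 0 0 1) = Aff.mk ![0, 0, 0] (upU 0 0 1) := Aff.ext (by funext a; fin_cases a <;> rfl) rfl
    have hn : y * Aff.li (upU 0 0 1) = Aff.mk ![j, 0, 0] (upU 0 0 l) * y := O.af_injective (by
      rw [map_mul, map_mul, e, hli, inv_mul_cancel_right])
    obtain ⟨i, g, p, q, rfl⟩ := norm_cent_t ht hn
    exact ⟨i, g, p, q, rfl⟩
  obtain ⟨P, hP⟩ := O.sylow_of_N (X := X) hsX hsN hp hzR hzV hzne (by
    rintro x hxX - ⟨k, hk⟩ hxn
    obtain ⟨i, g, p, q, rfl⟩ := hform x hxX hxn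
    have hpow : ∀ n, ((tEl i g p q) ^ n).A.1 0 0 = sg p ^ n ∧ ((tEl i g p q) ^ n).A.1 1 1 = sg q ^ n ∧
        ((tEl i g p q) ^ n).A.1 1 0 = 0 ∧ ((tEl i g p q) ^ n).A.1 0 1 = 0 ∧ ((tEl i g p q) ^ n).A.1 0 2 = 0 := by
      intro n
      induction n with
      | zero => simp [Aff.one_A]
      | succ m ih =>
        obtain ⟨i1, i2, i3, i4, i5⟩ := ih
        rw [pow_succ, Aff.mul_A, Matrix.SpecialLinearGroup.coe_mul]
        simp only [Matrix.mul_apply, Fin.sum_univ_three, i1, i2, i3, i4, i5]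
        simp [tEl, pow_succ]
    have h1 : (tEl i g p q) ^ 3 ^ k = 1 := O.af_injective (by rw [map_pow, hk, map_one])
    obtain ⟨a1, a2, -⟩ := hpow (3 ^ k)
    rw [h1] at a1 a2
    simp [Aff.one_A] at a1 a2
    have hp' := sg_eq_one p a1
    have hq' := sg_eq_one q a2
    subst hp' hq'
    exact ⟨i, g, congrArg O.af (Aff.ext rfl (Subtype.ext (by
      ext a b; fin_cases a <;> fin_cases b <;> simp [tEl, upU, sg])))⟩)
  let el : ZMod 3 → ZMod 3 → X := fun i l => ⟨O.af ⟨![i, 0, 0], upU 0 0 l⟩, hsX ⟨i, l, rfl⟩⟩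
  have hPmem : ∀ x : X, x ∈ (P : Subgroup X) ↔ (x : G) ∈ O.sylT := fun x => by rw [hP, mem_subgroupOf]
  have hcomm : ∀ a ∈ (P : Subgroup X), ∀ b ∈ (P : Subgroup X), a * b = b * a := by
    intro a ha b hb
    obtain ⟨i, l, hil⟩ := (hPmem a).1 ha
    obtain ⟨i', l', hil'⟩ := (hPmem b).1 hb
    refine Subtype.ext ?_
    rw [Subgroup.coe_mul, Subgroup.coe_mul, ← hil, ← hil', ← map_mul, ← map_mul, sylT_mul, sylT_mul, add_comm i,
      add_comm l]
  have hnc : ¬ IsCyclic (P : Subgroup X) := by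
    intro hc
    obtain ⟨⟨x, hx⟩, hgen⟩ := hc.exists_generator
    obtain ⟨i, l, hil⟩ := (hPmem x).1 hx
    have hmul : ∀ n : ℕ, (x : G) ^ n = O.af ⟨![n * i, 0, 0], upU 0 0 (n * l)⟩ := by
      intro n
      induction n with
      | zero => rw [pow_zero, Nat.cast_zero, zero_mul, zero_mul, sylT_one, map_one]
      | succ m ih =>
        rw [pow_succ, ih, ← hil, ← map_mul, sylT_mul]
        congr 2 <;> push_cast <;> ring_nf
    have key : ∀ i' l', ∃ n : ZMod 3, i' = n * i ∧ l' = n * l := by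
      intro i' l'
      obtain ⟨n, hn⟩ := mem_powers_iff_mem_zpowers.2 (hgen ⟨el i' l', (hPmem _).2 ⟨i', l', rfl⟩⟩)
      have h1 : (x : G) ^ n = O.af ⟨![i', 0, 0], upU 0 0 l'⟩ :=
        congrArg (fun w : (P : Subgroup X) => ((w : X) : G)) hn
      rw [hmul] at h1
      have h2 := O.af_injective h1
      exact ⟨n, (congrFun (congrArg Aff.v h2) 0).symm,
        (congrFun (congrFun (congrArg (fun y : Aff => y.A.1) h2) 1) 2).symm⟩
    obtain ⟨n, a1, a2⟩ := key 1 0
    obtain ⟨m, a3, a4⟩ := key 0 1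
    exact no_gen i l n m a1 a2 a3 a4
  have hnP : ∀ x : X, x ∈ normalizer ((P : Subgroup X) : Set X) → (x : G) ∈ normalizer (O.sylT : Set G) := by
    intro x hx
    refine mem_normalizer_iff.2 fun y => ⟨fun hy => ?_, fun hy => ?_⟩
    · exact (hPmem _).1 ((mem_normalizer_iff.1 hx ⟨y, hsX hy⟩).1 ((hPmem _).2 hy))
    · have hyX : y ∈ X := by
        have := mul_mem (mul_mem (inv_mem x.2) (hsX hy)) x.2
        simpa [mul_assoc] using this
      exact (hPmem _).1 ((mem_normalizer_iff.1 hx ⟨y, hyX⟩).2 ((hPmem _).2 hy))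
  have hact : ∀ (i g : ZMod 3) (p q : Bool) (y : X), O.af (tEl i g p q) = y → ∀ j l,
      y * el j l * y⁻¹ = el (sg p * j) (sg p * l) := by
    intro i g p q y hy j l
    refine Subtype.ext ?_
    show (y : G) * O.af _ * (y : G)⁻¹ = O.af _
    rw [mul_inv_eq_iff_eq_mul, ← hy, ← map_mul, ← map_mul, tEl_conj]
  have htop := st_factor P hcomm hnc (fun n hn => by
      obtain ⟨i, g, p, q, hy⟩ := hform n n.2 (hnP n hn)
      cases p
      · refine Or.inl (mem_centralizer_iff.2 fun x hx => ?_)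
        obtain ⟨j, l, hjl⟩ := (hPmem x).1 hx
        have e := hact i g false q n hy j l
        rw [sg_false, one_mul, one_mul, show el j l = x from Subtype.ext hjl] at e
        exact (mul_inv_eq_iff_eq_mul.1 e).symm
      · refine Or.inr fun x hx => ?_
        obtain ⟨j, l, hjl⟩ := (hPmem x).1 hx
        have e := hact i g true q n hy j l
        rw [show el j l = x from Subtype.ext hjl] at e
        rw [e, ← show el j l = x from Subtype.ext hjl]
        refine eq_inv_of_mul_eq_one_left (Subtype.ext ?_)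
        show O.af _ * O.af _ = 1
        rw [← map_mul, sylT_mul, sg_true, show -1 * j + j = 0 by ring, show -1 * l + l = 0 by ring, sylT_one,
          map_one])
    (by
      have hyX : O.af (tEl 0 0 true false) ∈ X := mem_centralizer_singleton_iff.2 (by
        rw [← O.af_t, ← map_mul, ← map_mul, tEl_t])
      refine ⟨⟨_, hyX⟩, mem_normalizer_iff.2 fun x => ⟨fun hx => ?_, fun hx => ?_⟩, fun h => ?_⟩
      · obtain ⟨j, l, hjl⟩ := (hPmem x).1 hx
        rw [← show el j l = x from Subtype.ext hjl, hact 0 0 true false _ rfl]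
        exact (hPmem _).2 ⟨_, _, rfl⟩
      · obtain ⟨j, l, hjl⟩ := (hPmem _).1 hx
        set y : X := ⟨_, hyX⟩
        have e : x = el (-j) (-l) := by
          have e1 : y * x * y⁻¹ = el j l := (Subtype.ext hjl).symm
          have e2 := hact 0 0 true false y rfl (-j) (-l)
          rw [sg_true, neg_one_mul, neg_one_mul, neg_neg, neg_neg, ← e1] at e2
          exact (mul_left_cancel (mul_right_cancel e2)).symm
        rw [e]
        exact (hPmem _).2 ⟨_, _, rfl⟩
      · have h1 := mem_centralizer_iff.1 h (el 1 0) ((hPmem _).2 ⟨_, _, rfl⟩)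
        have h2 := hact 0 0 true false ⟨_, hyX⟩ rfl 1 0
        rw [← h1, mul_inv_cancel_right] at h2
        have h3 := congrFun (congrArg Aff.v (O.af_injective (congrArg Subtype.val h2))) 0
        exact neg_one_ne (by simpa [sg] using h3.symm))
  -- the core lies in the normaliser
  set L := (Cfsg.pPrimeCore 3 X).map X.subtype with hL
  have hLN : L ≤ O.N := by
    have hRn : O.sylT ≤ normalizer (L : Set G) := fun r hr => mem_normalizer_iff.2 fun x => by
      constructor
      · rintro ⟨w, hw, rfl⟩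
        exact ⟨_, (inferInstance : (Cfsg.pPrimeCore 3 X).Normal).conj_mem w hw ⟨r, hsX hr⟩, rfl⟩
      · rintro ⟨w, hw, e⟩
        refine ⟨_, (inferInstance : (Cfsg.pPrimeCore 3 X).Normal).conj_mem w hw (⟨r, hsX hr⟩⁻¹), ?_⟩
        show r⁻¹ * (w : G) * r⁻¹⁻¹ = x
        rw [show (w : G) = r * x * r⁻¹ from e]; group
    haveI : IsMulCommutative O.sylT := ⟨⟨fun a b => by
      have := hcomm ⟨a, hsX a.2⟩ ((hPmem _).2 a.2) ⟨b, hsX b.2⟩ ((hPmem _).2 b.2)
      exact Subtype.ext (congrArg (fun w : X => (w : G)) this)⟩⟩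
    have hnc' : ¬ IsCyclic O.sylT := fun h => hnc (by
      let e : O.sylT ≃* (P : Subgroup X) :=
        { toFun := fun a => ⟨⟨a, hsX a.2⟩, (hPmem _).2 a.2⟩
          invFun := fun a => ⟨((a : X) : G), (hPmem _).1 a.2⟩
          left_inv := fun _ => rfl
          right_inv := fun _ => rfl
          map_mul' := fun _ _ => rfl }
      exact e.isCyclic.1 h)
    have hcop : (Nat.card O.sylT).Coprime (Nat.card L) := by
      obtain ⟨n, hn⟩ := IsPGroup.iff_card.1 hp
      rw [hn, hL, Subgroup.card_map_of_injective X.subtype_injective]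
      exact Nat.Coprime.pow_left n (Core.pPrimeCore_coprime 3 X).symm
    refine (Cfsg.Lib.Coprime.le_iSup_centralizer_of_not_isCyclic hnc' hRn hcop).trans (iSup_le ?_)
    rintro ⟨r, hr, hr1⟩ x hx
    have hxr : x * r = r * x := mem_centralizer_singleton_iff.1 (mem_inf.1 hx).2
    obtain ⟨i, l, rfl⟩ := hr
    have hl := zmod3_cases l
    have hcomb : ∀ m : ZMod 3, ∀ n : ℕ, x * O.af ⟨![i, 0, 0], upU 0 0 l⟩ ^ n =
        O.af ⟨![i, 0, 0], upU 0 0 l⟩ ^ n * x := fun _ n => ((show Commute x _ from hxr).pow_right n).eq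
    rcases hl with rfl | rfl | rfl
    · refine O.cent_le (b := O.af ⟨![i, 0, 0], upU 0 0 0⟩) ?_ hr1 hxr
      exact O.af_mem_V1.2 (Subtype.ext (by ext a b; fin_cases a <;> fin_cases b <;> rfl))
    · by_cases hi : i = 0
      · subst hi
        refine O.cent_s_le ?_
        rwa [sv, li_upU]
      · exact O.cent_e_le hi hxr
    · have h2 := hcomb 0 2
      rw [pow_two, ← map_mul, sylT_mul, show (2 : ZMod 3) + 2 = 1 from rfl] at h2
      by_cases hi : i + i = 0
      · rw [hi] at h2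
        refine O.cent_s_le ?_
        rwa [sv, li_upU]
      · exact O.cent_e_le hi h2
  have hgX : g ∈ X := mem_centralizer_singleton_iff.2 hg
  obtain ⟨a, ha, b, hb, hab⟩ := mem_sup_of_normal_right.1 (htop.symm ▸ mem_top (⟨g, hgX⟩ : X))
  rw [show g = (a : G) * b from congrArg Subtype.val hab.symm]
  exact mul_mem (O.normalizer_le hsN hzR hzV hzne (hnP a ha)) (hLN ⟨b, hb, rfl⟩)

end One

end Cfsg.Lib.LFourThree
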