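import Cfsg.Agent.Lib.Char.Induced
import Cfsg.Agent.Lib.Char.Basic
import Mathlib.RingTheory.RootsOfUnity.Complex

/-!
# The group of order 162 and three generalised characters
-/

set_option autoImplicit false
set_option linter.unusedSectionVars false
set_option linter.style.haveILetI false

namespace Cfsg.Lib.LFourThree

open Cfsg Cfsg.Lib.Char
open scoped ComplexConjugate

/-- The group: vectors, a rotation and a flip, the flip acting with a sign. -/
structure ND : Type where
  /-- The vector. -/
  v : ZMod 3 → ZMod 3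
  /-- The rotation. -/
  a : ZMod 3
  /-- The flip. -/
  e : Bool

namespace ND

/-- The sign of a flip. -/
def S (e : Bool) : ZMod 3 := if e then -1 else 1

/-- The action on vectors. -/
def act (a : ZMod 3) (e : Bool) (v : ZMod 3 → ZMod 3) : ZMod 3 → ZMod 3 := fun i => S e * v (S e * (i - a))

theorem S_mul : ∀ e e' : Bool, S (Bool.xor e e') = S e * S e' := by decide

theorem S_sq : ∀ e : Bool, S e * S e = 1 := by decide

theorem act_act (a a' : ZMod 3) (e e' : Bool) (v : ZMod 3 → ZMod 3) :
    act a e (act a' e' v) = act (a + S e * a') (Bool.xor e e') v := by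
  funext i
  have h : ∀ (s s' x y : ZMod 3), s * s = 1 → s' * (s * x - y) = s * s' * (x - s * y) := by decide
  simp only [act, S_mul]
  rw [h _ _ _ _ (S_sq e), ← mul_assoc, show i - a - S e * a' = i - (a + S e * a') by ring]

theorem act_add (a : ZMod 3) (e : Bool) (v w : ZMod 3 → ZMod 3) : act a e (v + w) = act a e v + act a e w := by
  funext i
  simp [act, mul_add]

@[ext] theorem ext {x y : ND} (h1 : x.v = y.v) (h2 : x.a = y.a) (h3 : x.e = y.e) : x = y := by
  cases x; cases y; simp_all

instance : DecidableEq ND := fun x y =>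
  decidable_of_iff (x.v = y.v ∧ x.a = y.a ∧ x.e = y.e) ⟨fun h => ext h.1 h.2.1 h.2.2, fun h => h ▸ ⟨rfl, rfl, rfl⟩⟩

/-- The parameters. -/
def equiv : (ZMod 3 → ZMod 3) × ZMod 3 × Bool ≃ ND where
  toFun p := ⟨p.1, p.2.1, p.2.2⟩
  invFun x := (x.v, x.a, x.e)
  left_inv _ := rfl
  right_inv _ := rfl

instance : Fintype ND := Fintype.ofEquiv _ equiv

instance : Mul ND := ⟨fun x y => ⟨x.v + act x.a x.e y.v, x.a + S x.e * y.a, Bool.xor x.e y.e⟩⟩

instance : One ND := ⟨⟨0, 0, false⟩⟩

instance : Inv ND := ⟨fun x => ⟨-act (-(S x.e * x.a)) x.e x.v, -(S x.e * x.a), x.e⟩⟩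

theorem mul_def (x y : ND) : x * y = ⟨x.v + act x.a x.e y.v, x.a + S x.e * y.a, Bool.xor x.e y.e⟩ := rfl

instance : Group ND where
  mul_assoc x y z := by
    simp only [mul_def]
    refine ext ?_ ?_ (Bool.xor_assoc _ _ _)
    · simp only [act_add, act_act, add_assoc]
    · simp only [S_mul]; ring
  one_mul x := by
    show ND.mk (0 + act 0 false x.v) (0 + S false * x.a) (Bool.xor false x.e) = x
    refine ext ?_ ?_ (Bool.false_xor _)
    · funext i; simp [act, S]
    · simp [S]
  mul_one x := by
    show ND.mk (x.v + act x.a x.e 0) (x.a + S x.e * 0) (Bool.xor x.e false) = x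
    refine ext ?_ ?_ (Bool.xor_false _)
    · funext i; simp [act]
    · simp
  inv_mul_cancel x := by
    show ND.mk (-act (-(S x.e * x.a)) x.e x.v + act (-(S x.e * x.a)) x.e x.v) (-(S x.e * x.a) + S x.e * x.a)
      (Bool.xor x.e x.e) = ⟨0, 0, false⟩
    exact ext (neg_add_cancel _) (neg_add_cancel _) (Bool.xor_self _)

theorem card : Nat.card ND = 162 := by
  rw [← Nat.card_congr equiv, Nat.card_prod, Nat.card_prod, Nat.card_fun, Nat.card_zmod, Nat.card_eq_fintype_card,
    Fintype.card_bool]
  norm_num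

/-- The elements without flip. -/
def P : Subgroup ND where
  carrier := {x | x.e = false}
  one_mem' := rfl
  mul_mem' := by
    intro x y (hx : x.e = false) (hy : y.e = false)
    show Bool.xor x.e y.e = false
    rw [hx, hy]; rfl
  inv_mem' := fun h => h

/-- The elements without rotation. -/
def M : Subgroup ND where
  carrier := {x | x.a = 0}
  one_mem' := rfl
  mul_mem' := by
    intro x y (hx : x.a = 0) (hy : y.a = 0)
    show x.a + S x.e * y.a = 0
    rw [hx, hy, mul_zero, add_zero]
  inv_mem' := by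
    intro x (hx : x.a = 0)
    show -(S x.e * x.a) = 0
    rw [hx, mul_zero, neg_zero]

instance : DecidablePred (· ∈ P) := fun x => inferInstanceAs (Decidable (x.e = false))

instance : DecidablePred (· ∈ M) := fun x => inferInstanceAs (Decidable (x.a = 0))

instance : P.Normal := ⟨fun x (hx : x.e = false) g => by
  show Bool.xor (Bool.xor g.e x.e) g.e = false
  rw [hx, Bool.xor_false, Bool.xor_self]⟩

theorem card_P : Nat.card P = 81 := by
  rw [Nat.card_eq_fintype_card]
  decide +kernel

theorem card_M : Nat.card M = 54 := by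
  rw [Nat.card_eq_fintype_card]
  decide +kernel

/-- The cube root of unity. -/
noncomputable def om : ℂ := Complex.exp (2 * Real.pi * Complex.I / 3)

theorem om_spec : IsPrimitiveRoot om 3 := by
  have := Complex.isPrimitiveRoot_exp 3 (by norm_num)
  simpa [om] using this

theorem om_cube : om ^ 3 = 1 := om_spec.pow_eq_one

theorem om_sum : 1 + om + om ^ 2 = 0 := by
  have := om_spec.geom_sum_eq_zero (by norm_num)
  rw [Finset.sum_range_succ, Finset.sum_range_succ, Finset.sum_range_one, pow_zero, pow_one] at this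
  exact this

theorem conj_om : conj om = om ^ 2 := by
  have h1 : om * conj om = 1 := by
    rw [Complex.mul_conj', Complex.norm_eq_one_of_pow_eq_one om_cube (by norm_num)]
    norm_num
  have h2 : om * om ^ 2 = 1 := by rw [← pow_succ', om_cube]
  exact mul_left_cancel₀ (om_spec.ne_zero (by norm_num)) (h1.trans h2.symm)

/-- Powers of the root. -/
noncomputable def zeta (k : ZMod 3) : ℂ := om ^ k.val

theorem zeta_add (i j : ZMod 3) : zeta (i + j) = zeta i * zeta j := by
  rw [zeta, zeta, zeta, ← pow_add, ZMod.val_add]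
  conv_rhs => rw [← Nat.div_add_mod (i.val + j.val) 3, pow_add, pow_mul, om_cube, one_pow, one_mul]

theorem zeta_zero : zeta 0 = 1 := by rw [zeta, ZMod.val_zero, pow_zero]

/-- The Eisenstein integers. -/
noncomputable def ev : ℤ × ℤ →+ ℂ where
  toFun p := (p.1 : ℂ) + (p.2 : ℂ) * om
  map_zero' := by simp
  map_add' p q := by
    simp only [Prod.fst_add, Prod.snd_add, Int.cast_add]
    ring

theorem ev_apply (p : ℤ × ℤ) : ev p = (p.1 : ℂ) + (p.2 : ℂ) * om := rfl

/-- The coordinates of the powers. -/
def cyc (k : ZMod 3) : ℤ × ℤ := if k = 0 then (1, 0) else if k = 1 then (0, 1) else (-1, -1)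

theorem ev_cyc (k : ZMod 3) : ev (cyc k) = zeta k := by
  have hk : k = 0 ∨ k = 1 ∨ k = 2 := by revert k; decide
  rcases hk with rfl | rfl | rfl
  · rw [zeta_zero, ev_apply]; simp [cyc]
  · rw [zeta, ZMod.val_one, pow_one, ev_apply]; simp [cyc]
  · rw [zeta, show (2 : ZMod 3).val = 2 from rfl, ev_apply, show cyc 2 = (-1, -1) from rfl]
    push_cast
    linear_combination -om_sum

theorem ev_mul_conj (p : ℤ × ℤ) :
    ev p * conj (ev p) = ((p.1 * p.1 - p.1 * p.2 + p.2 * p.2 : ℤ) : ℂ) := by
  rw [ev_apply, map_add, map_mul, map_intCast, map_intCast, conj_om]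
  push_cast
  linear_combination (p.1 : ℂ) * p.2 * om_sum + (p.2 : ℂ) * p.2 * om_cube

/-- A linear character from an additive exponent. -/
noncomputable def lin {H : Type*} [Group H] (x : H → ZMod 3) (hx : ∀ g h, x (g * h) = x g + x h) : H →* ℂˣ where
  toFun g := Units.mk0 (zeta (x g)) (pow_ne_zero _ (om_spec.ne_zero (by norm_num)))
  map_one' := by
    have := hx 1 1
    rw [mul_one, right_eq_add] at this
    exact Units.ext (show zeta (x 1) = 1 by rw [this, zeta_zero])
  map_mul' g h := Units.ext (show zeta (x (g * h)) = zeta (x g) * zeta (x h) by rw [hx, zeta_add])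

theorem isGen_lin {H : Type} [Group H] [Finite H] (x : H → ZMod 3) (hx : ∀ g h, x (g * h) = x g + x h) :
    IsGeneralizedCharacter H (fun g => zeta (x g)) :=
  (isIrrCharacter_linear (lin x hx)).isGeneralized

/-- The first function on parameters. -/
def cA (x : ND) : ℤ × ℤ :=
  (if x.a + 0 * (S x.e - 1) = 0 then cyc (act 0 false x.v 1 + 2 * act 0 false x.v 2) else 0) +
    (if x.a + 1 * (S x.e - 1) = 0 then cyc (act 2 false x.v 1 + 2 * act 2 false x.v 2) else 0) +
    (if x.a + 2 * (S x.e - 1) = 0 then cyc (act 1 false x.v 1 + 2 * act 1 false x.v 2) else 0) - (1, 0) -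
    (if x.e then 0 else cyc x.a + cyc (-x.a))

/-- The third function on parameters. -/
def cC (x : ND) : ℤ :=
  if x.e then 0 else if x.v 0 + x.v 1 + x.v 2 = 0 then 0 else 3

/-- The sign character. -/
def sgnI (x : ND) : ℤ := if x.e then -1 else 1

/-- The first generalised character. -/
noncomputable def th₁ (x : ND) : ℂ := ev (cA x)

/-- The second generalised character. -/
noncomputable def th₂ (x : ND) : ℂ := (sgnI x : ℂ) * ev (cA x)

/-- The third generalised character. -/
noncomputable def th₃ (x : ND) : ℂ := (cC x : ℂ)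

theorem extend_if {H : Subgroup ND} [DecidablePred (· ∈ H)] (f : ND → ℂ) (g : ND) :
    extendByZero H (fun h => f h) g = if g ∈ H then f g else 0 := by
  by_cases h : g ∈ H
  · rw [if_pos h, extendByZero_of_mem H _ h]
  · rw [if_neg h, extendByZero_of_notMem H _ h]

theorem indP_eq (x : ND → ZMod 3) (hx : ∀ g h : ND, g.e = false → h.e = false → x (g * h) = x g + x h)
    (hinv : ∀ v a a', x ((⟨0, a', true⟩ : ND)⁻¹ * ⟨v, a, false⟩ * ⟨0, a', true⟩) = -x ⟨v, a, false⟩) (g : ND) :
    indFun P (fun h => zeta (x h)) g = if g.e then 0 else zeta (x g) + zeta (-x g) := by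
  cases he : g.e
  · rw [if_neg Bool.false_ne_true]
    simp only [indFun, card_P]
    have key : ∀ y : ND, extendByZero P (fun h => zeta (x h)) (y⁻¹ * g * y) =
        if y.e then zeta (-x g) else zeta (x g) := by
      intro y
      have hm : y⁻¹ * g * y ∈ P := by
        show Bool.xor (Bool.xor y.e g.e) y.e = false
        rw [he, Bool.xor_false, Bool.xor_self]
      rw [extend_if (fun h => zeta (x h)), if_pos hm]
      have hg : g = ⟨g.v, g.a, false⟩ := ext rfl rfl he
      cases hy : y.e
      · rw [if_neg Bool.false_ne_true]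
        congr 1
        have hy' : (y⁻¹).e = false := hy
        rw [hx _ _ (show (y⁻¹ * g).e = false by show Bool.xor (y⁻¹).e g.e = false; rw [hy', he]; rfl) hy,
          hx _ _ hy' he, add_comm, ← add_assoc, ← hx _ _ hy hy', mul_inv_cancel]
        have := hx 1 1 rfl rfl
        rw [mul_one, right_eq_add] at this
        rw [this, zero_add]
      · rw [if_pos rfl]
        congr 1
        set c : ND := ⟨0, y.a, true⟩ with hc
        set p := c⁻¹ * y with hp
        have hpe : p.e = false := by
          show Bool.xor true y.e = false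
          rw [hy]; rfl
        have hpe' : (p⁻¹).e = false := hpe
        have hw : (c⁻¹ * g * c).e = false := by
          show Bool.xor (Bool.xor true g.e) true = false
          rw [he]; rfl
        rw [show y⁻¹ * g * y = p⁻¹ * (c⁻¹ * g * c) * p by rw [hp]; group,
          hx _ _ (show (p⁻¹ * (c⁻¹ * g * c)).e = false by
            show Bool.xor (p⁻¹).e (c⁻¹ * g * c).e = false; rw [hpe', hw]; rfl) hpe,
          hx _ _ hpe' hw, add_comm, ← add_assoc, ← hx _ _ hpe hpe', mul_inv_cancel]
        have := hx 1 1 rfl rfl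
        rw [mul_one, right_eq_add] at this
        rw [this, zero_add]
        conv_lhs => rw [hg]
        conv_rhs => rw [hg]
        exact hinv g.v g.a y.a
    rw [Finset.sum_congr rfl fun y _ => key y, Finset.sum_ite, Finset.sum_const, Finset.sum_const,
      show (Finset.univ.filter fun y : ND => y.e = true).card = 81 by decide +kernel,
      show (Finset.univ.filter fun y : ND => ¬ y.e = true).card = 81 by decide +kernel]
    simp only [nsmul_eq_mul]
    push_cast
    ring
  · rw [if_pos rfl]
    exact indFun_normal_of_notMem P _ (fun h => by rw [show g.e = false from h] at he; exact Bool.false_ne_true he)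

/-- The exponent on the rotation-free elements. -/
def lamM (x : ND) : ZMod 3 := x.v 1 + 2 * x.v 2

theorem lamM_act : ∀ (e : Bool) (v : ZMod 3 → ZMod 3), act 0 e v 1 + 2 * act 0 e v 2 = v 1 + 2 * v 2 := by
  decide +kernel

theorem lamM_mul : ∀ g h : M, lamM ((g * h : M) : ND) = lamM g + lamM h := by
  rintro ⟨g, hg : g.a = 0⟩ ⟨h, -⟩
  show (g.v + act g.a g.e h.v) 1 + 2 * (g.v + act g.a g.e h.v) 2 = _
  rw [hg, Pi.add_apply, Pi.add_apply, lamM, lamM]
  linear_combination lamM_act g.e h.v

/-- The coset representatives of `M`. -/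
def rep (i : ZMod 3) : ND := ⟨0, i, false⟩

theorem rep_conj : ∀ (v : ZMod 3 → ZMod 3) (a : ZMod 3) (e : Bool) (i : ZMod 3),
    ((rep i)⁻¹ * ⟨v, a, e⟩ * rep i).a = a + i * (S e - 1) ∧
      ((rep i)⁻¹ * ⟨v, a, e⟩ * rep i).v = act (-i) false v := by
  decide +kernel

theorem indM_eq (g : ND) :
    indFun M (fun h => zeta (lamM h)) g = ∑ i : ZMod 3,
      if g.a + i * (S g.e - 1) = 0 then zeta (act (-i) false g.v 1 + 2 * act (-i) false g.v 2) else 0 := by
  simp only [indFun, card_M]
  have hbij : ∀ y : ND, ∃ h : M, y = rep y.a * h := by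
    intro y
    refine ⟨⟨(rep y.a)⁻¹ * y, ?_⟩, (mul_inv_cancel_left _ _).symm⟩
    show -(S false * y.a) + S false * y.a = 0
    exact neg_add_cancel _
  have key : ∀ y : ND, extendByZero M (fun h => zeta (lamM h)) (y⁻¹ * g * y) =
      if g.a + y.a * (S g.e - 1) = 0 then zeta (act (-y.a) false g.v 1 + 2 * act (-y.a) false g.v 2) else 0 := by
    intro y
    obtain ⟨h, hy⟩ := hbij y
    set w := (rep y.a)⁻¹ * g * rep y.a with hw
    obtain ⟨hwa, hwv⟩ := rep_conj g.v g.a g.e y.a
    have e : y⁻¹ * g * y = (h : ND)⁻¹ * w * h := by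
      conv_lhs => rw [hy]
      rw [hw]
      group
    have hiff : y⁻¹ * g * y ∈ M ↔ w ∈ M := by
      rw [e, Subgroup.mul_mem_cancel_right M h.2, Subgroup.mul_mem_cancel_left M (inv_mem h.2)]
    rw [extend_if (fun h => zeta (lamM h))]
    by_cases hm : w ∈ M
    · rw [if_pos (hiff.2 hm), if_pos (hwa.symm.trans hm), e]
      congr 1
      have e1 := lamM_mul (h⁻¹ * ⟨w, hm⟩) h
      have e2 := lamM_mul h⁻¹ ⟨w, hm⟩
      have e3 := lamM_mul h⁻¹ h
      rw [inv_mul_cancel] at e3
      rw [show lamM ((h : ND)⁻¹ * w * h) = lamM ((h⁻¹ * ⟨w, hm⟩ * h : M) : ND) from rfl, e1, e2]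
      have e4 : lamM ((1 : M) : ND) = 0 := by show (0 : ZMod 3) + 2 * 0 = 0; ring
      rw [e4] at e3
      show _ = act (-y.a) false g.v 1 + 2 * act (-y.a) false g.v 2
      rw [← hwv]
      show lamM _ + (w.v 1 + 2 * w.v 2) + lamM _ = _
      linear_combination e3.symm
    · rw [if_neg (fun h' => hm (hiff.1 h')), if_neg (fun h' => hm (hwa.trans h'))]
  rw [Finset.sum_congr rfl fun y _ => key y,
    ← Finset.sum_fiberwise Finset.univ (fun y : ND => y.a), Finset.mul_sum]
  refine Finset.sum_congr rfl fun i _ => ?_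
  rw [Finset.sum_congr rfl fun y hy => by rw [(Finset.mem_filter.1 hy).2], Finset.sum_const,
    show (Finset.univ.filter fun y : ND => y.a = i).card = 54 by revert i; decide +kernel]
  simp only [nsmul_eq_mul]
  push_cast
  rw [← mul_assoc, inv_mul_cancel₀ (by norm_num), one_mul]

theorem isGen_one : IsGeneralizedCharacter ND (fun _ => (1 : ℂ)) := by
  have := isGen_lin (H := ND) (fun _ => 0) (fun _ _ => (add_zero _).symm)
  simpa [zeta_zero] using this

theorem isGen_sgn : IsGeneralizedCharacter ND (fun x => (sgnI x : ℂ)) := by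
  let f : ND →* ℂˣ :=
    { toFun := fun x => if x.e then -1 else 1
      map_one' := rfl
      map_mul' := fun x y => by
        show (if Bool.xor x.e y.e then (-1 : ℂˣ) else 1) = _
        cases x.e <;> cases y.e <;> simp }
  have h := (isIrrCharacter_linear f).isGeneralized
  convert h using 1
  funext x
  show (sgnI x : ℂ) = ((if x.e then (-1 : ℂˣ) else 1 : ℂˣ) : ℂ)
  unfold sgnI
  cases x.e <;> simp

theorem rot_inv : ∀ v a a', (((⟨0, a', true⟩ : ND)⁻¹ * ⟨v, a, false⟩ * ⟨0, a', true⟩)).a = -a := by
  decide +kernel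

theorem tot_inv : ∀ v a a', ((((⟨0, a', true⟩ : ND)⁻¹ * ⟨v, a, false⟩ * ⟨0, a', true⟩)).v 0 +
    (((⟨0, a', true⟩ : ND)⁻¹ * ⟨v, a, false⟩ * ⟨0, a', true⟩)).v 1 +
    (((⟨0, a', true⟩ : ND)⁻¹ * ⟨v, a, false⟩ * ⟨0, a', true⟩)).v 2) = -(v 0 + v 1 + v 2) := by
  decide +kernel

theorem act_tot : ∀ (a : ZMod 3) (v : ZMod 3 → ZMod 3),
    act a false v 0 + act a false v 1 + act a false v 2 = v 0 + v 1 + v 2 := by
  decide +kernel

theorem isGen_th₁ : IsGeneralizedCharacter ND th₁ := by
  have hM := isGeneralizedCharacter_indFun M (isGen_lin (H := M) (fun h => lamM h) lamM_mul)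
  have hP := isGeneralizedCharacter_indFun P (isGen_lin (H := P) (fun h => (h : ND).a)
    (fun g h => by
      show (g : ND).a + S (g : ND).e * (h : ND).a = _
      rw [show (g : ND).e = false from g.2, show S false = 1 from rfl, one_mul]))
  convert (hM.sub isGen_one).sub hP using 1
  funext x
  simp only [Pi.sub_apply, th₁, indM_eq]
  rw [indP_eq (fun h => h.a) (fun g h hg _ => by
      show g.a + S g.e * h.a = _
      rw [hg, show S false = 1 from rfl, one_mul]) rot_inv]
  rw [show (Finset.univ : Finset (ZMod 3)) = {0, 1, 2} by decide, Finset.sum_insert (by decide),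
    Finset.sum_insert (by decide), Finset.sum_singleton]
  simp only [cA, map_sub, map_add, apply_ite ev, map_zero, ev_cyc]
  have h10 : ev (1, 0) = 1 := by rw [ev_apply]; simp
  rw [h10, show (-(0 : ZMod 3)) = 0 by decide, show (-(1 : ZMod 3)) = 2 by decide,
    show (-(2 : ZMod 3)) = 1 by decide]
  ring

theorem isGen_th₂ : IsGeneralizedCharacter ND th₂ := isGen_sgn.mul isGen_th₁

theorem isGen_th₃ : IsGeneralizedCharacter ND th₃ := by
  have hx : ∀ g h : ND, g.e = false → (g * h).v 0 + (g * h).v 1 + (g * h).v 2 =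
      (g.v 0 + g.v 1 + g.v 2) + (h.v 0 + h.v 1 + h.v 2) := by
    intro g h hg
    show (g.v + act g.a g.e h.v) 0 + (g.v + act g.a g.e h.v) 1 + (g.v + act g.a g.e h.v) 2 = _
    rw [hg]
    simp only [Pi.add_apply]
    linear_combination act_tot g.a h.v
  have h1 := isGeneralizedCharacter_indFun P (isGen_lin (H := P) (fun _ => 0) (fun _ _ => (add_zero _).symm))
  have h2 := isGeneralizedCharacter_indFun P (isGen_lin (H := P)
    (fun h => (h : ND).v 0 + (h : ND).v 1 + (h : ND).v 2) (fun g h => hx g h g.2))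
  convert h1.sub h2 using 1
  funext x
  simp only [Pi.sub_apply]
  rw [indP_eq (fun _ => 0) (fun _ _ _ _ => (add_zero _).symm) (fun _ _ _ => neg_zero.symm),
    indP_eq (fun h => h.v 0 + h.v 1 + h.v 2) (fun g h hg _ => hx g h hg) tot_inv]
  simp only [th₃, cC]
  cases x.e
  · simp only [Bool.false_eq_true, if_false, neg_zero, zeta_zero]
    have hk : ∀ k : ZMod 3, ((if k = 0 then 0 else 3 : ℤ) : ℂ) = 1 + 1 - (zeta k + zeta (-k)) := by
      intro k
      rw [← ev_cyc, ← ev_cyc, ← map_add]
      have : cyc k + cyc (-k) = (if k = 0 then (2, 0) else (-1, 0)) := by revert k; decide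
      rw [this]
      split <;> simp [ev_apply] <;> norm_num
    exact hk _
  · simp

end ND

end Cfsg.Lib.LFourThree
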