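import Cfsg.Agent.Lib.LFourThree.CaseOne.CentT
import Cfsg.Agent.Lib.Invol.Basic

/-!
# Case one: the involutions and the conclusion
-/

set_option autoImplicit false
set_option linter.unusedSectionVars false
set_option linter.style.haveILetI false

namespace Cfsg.Lib.LFourThree

open Subgroup Matrix

universe u

/-- A commuting involution of two involutions whose product has even order. -/
theorem exists_comm_invol {G : Type u} [Group G] [Finite G] {x y : G} (hx : x * x = 1) (hy : y * y = 1)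
    (he : Even (orderOf (x * y))) : ∃ w : G, w ≠ 1 ∧ w * w = 1 ∧ w * x = x * w ∧ w * y = y * w := by
  obtain ⟨m, hm⟩ := he
  have hpos := orderOf_pos (x * y)
  set w := (x * y) ^ m with hw
  have h2 : w * w = 1 := by rw [hw, ← pow_add, ← hm, pow_orderOf_eq_one]
  have hwi : w⁻¹ = w := inv_eq_of_mul_eq_one_right h2
  have hxi : x⁻¹ = x := inv_eq_of_mul_eq_one_right hx
  have hyi : y⁻¹ = y := inv_eq_of_mul_eq_one_right hy
  have key : ∀ u : G, u⁻¹ = u → u * (x * y) * u⁻¹ = (x * y)⁻¹ → w * u = u * w := by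
    intro u hu h
    have e : u * w * u⁻¹ = w := by rw [hw, ← conj_pow, h, inv_pow, ← hw, hwi]
    exact (mul_inv_eq_iff_eq_mul.1 e).symm
  refine ⟨w, fun h => ?_, h2, key x hxi ?_, key y hyi ?_⟩
  · have := Nat.le_of_dvd (by omega) (orderOf_dvd_of_pow_eq_one h)
    omega
  · rw [_root_.mul_inv_rev, hyi, hxi, show x * (x * y) * x = (x * x) * (y * x) by group, hx, one_mul]
  · rw [_root_.mul_inv_rev, hyi, hxi, show y * (x * y) * y = (y * x) * (y * y) by group, hy, mul_one]

/-- An involutive permutation of a finite set without fixed points has a domain of even size. -/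
theorem even_of_fixed_free {α : Type u} [Fintype α] [DecidableEq α] (f : α → α) (h2 : ∀ a, f (f a) = a)
    (hne : ∀ a, f a ≠ a) : Even (Fintype.card α) := by
  by_contra hodd
  let e : Equiv.Perm α := ⟨f, f, h2, h2⟩
  haveI : Fact (Nat.Prime 2) := ⟨Nat.prime_two⟩
  obtain ⟨a, ha⟩ := Equiv.Perm.exists_fixed_point_of_prime (p := 2) (n := 1)
    (fun h => hodd (even_iff_two_dvd.2 h)) (show e ^ 2 ^ 1 = 1 from Equiv.ext fun a => h2 a)
  exact hne a ha

/-- The linear parts commuting with the involution, by their lower blocks. -/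
theorem card_block : (Finset.univ.filter fun b : Fin 2 → Fin 2 → ZMod 3 =>
    b 0 0 * b 1 1 - b 0 1 * b 1 0 ≠ 0).card = 48 := by
  decide +kernel

theorem odd_divisor_le : ∀ n : ℕ, n ∣ 5616 → ¬ 2 ∣ n → n ≤ 351 := by
  intro n h1 h2
  have hc : Nat.Coprime n 16 := by
    rw [show (16 : ℕ) = 2 ^ 4 by norm_num]
    exact Nat.Coprime.pow_right 4 ((Nat.prime_two.coprime_iff_not_dvd.2 h2).symm)
  exact Nat.le_of_dvd (by norm_num) (hc.dvd_of_dvd_mul_left (by norm_num; exact h1))

namespace One

variable {G : Type u} [Group G] [Finite G] (O : One G)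

/-- The involutions of the normaliser are conjugate to the standard one. -/
theorem invol_conj {x : G} (hx : x ∈ O.N) (h2 : x * x = 1) (h1 : x ≠ 1) :
    ∃ g ∈ O.N, g * O.T.t * g⁻¹ = x := by
  -- a fixed vector
  obtain ⟨b, hb, hb1, hc⟩ : ∃ b ∈ O.F.V1, b ≠ 1 ∧ x * b = b * x := by
    obtain ⟨y, rfl⟩ := O.exists_af hx
    obtain ⟨v, hv⟩ : ∃ v : V3, y.A.1 *ᵥ v + v ≠ 0 := by
      by_contra hno
      push Not at hno
      have e : ∀ i j, y.A.1 i j = if i = j then -1 else 0 := by
        intro i j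
        have h := congrFun (hno (Pi.single j 1)) i
        simp [Matrix.mulVec_single, Pi.single_apply] at h
        split_ifs with hij
        · subst hij; simpa [eq_neg_iff_add_eq_zero] using h
        · simpa [hij] using h
      have hdet := y.A.2
      rw [Matrix.det_fin_three] at hdet
      simp [e] at hdet
      exact neg_one_ne hdet
    have hy2 : y * y = 1 := O.af_injective (by rw [map_mul, h2, map_one])
    have hA2 : y.A.1 * y.A.1 = 1 := congrArg (fun z : Aff => z.A.1) hy2
    refine ⟨O.F.pt O.T (y.A.1 *ᵥ v + v), O.F.pt_mem O.T _, fun h => hv (O.F.pt_injective O.T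
      (h.trans (O.F.pt_zero O.T).symm)), ?_⟩
    refine mul_inv_eq_iff_eq_mul.1 ?_
    rw [← O.af_tr, ← map_inv, ← map_mul, ← map_mul, Aff.conj_tr, Matrix.mulVec_add, Matrix.mulVec_mulVec, hA2,
      Matrix.one_mulVec, add_comm v]
  obtain ⟨n, hn, rfl⟩ := O.F.N_trans hb hb1
  set w := n⁻¹ * x * n with hw
  have hwC : w ∈ O.F.D.C := O.F.D.mem_C.2 (by
    calc n⁻¹ * x * n * O.F.z = n⁻¹ * (x * (n * O.F.z * n⁻¹)) * n := by group
      _ = O.F.z * (n⁻¹ * x * n) := by rw [hc]; group)
  have hw2 : w * w = 1 := by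
    rw [hw, show n⁻¹ * x * n * (n⁻¹ * x * n) = n⁻¹ * (x * x) * n by group, h2, mul_one, inv_mul_cancel]
  have hwQ : w ∉ O.F.D.Q := fun h => by
    have h3 := O.F.D.Q_exp w h
    rw [pow_succ, pow_two, hw2, one_mul, hw] at h3
    exact h1 (by simpa [mul_assoc] using congrArg (fun z => n * z * n⁻¹) h3)
  have hπ : O.F.D.π ⟨w, hwC⟩ = -1 := by
    have hsl : ∀ A : Cfsg.Lib.PSpThree.SL23, A * A = 1 → A = 1 ∨ A = -1 := by decide +kernel
    refine (hsl _ ?_).resolve_left fun h => hwQ ((O.F.D.ker _).1 h)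
    rw [← map_mul, show (⟨w, hwC⟩ * ⟨w, hwC⟩ : O.F.D.C) = 1 from Subtype.ext hw2, map_one]
  have hq : O.T.t⁻¹ * w ∈ O.F.D.Q :=
    O.F.D.eq_of_pi (a := ⟨O.T.t, O.T.ht⟩) (b := ⟨w, hwC⟩) (O.T.tp.trans hπ.symm)
  set q := O.T.t⁻¹ * w with hqdef
  have hti : O.T.t⁻¹ = O.T.t := inv_eq_of_mul_eq_one_right O.T.t2
  have hwq : w = O.T.t * q := by rw [hqdef, mul_inv_cancel_left]
  have hinv : O.T.t * q * O.T.t = q⁻¹ := by
    refine eq_inv_of_mul_eq_one_left ?_
    rw [show O.T.t * q * O.T.t * q = (O.T.t * q) * (O.T.t * q) by group, ← hwq, hw2]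
  have hq3 := O.F.D.Q_exp q hq
  refine ⟨n * q, mul_mem hn (O.F.C_le_N (O.F.D.Q_le hq)), ?_⟩
  have e2 : O.T.t * q⁻¹ = q * O.T.t := by rw [← hinv, ← mul_assoc, ← mul_assoc, O.T.t2, one_mul]
  have e3 : q * q = q⁻¹ := (inv_eq_of_mul_eq_one_right (by rw [← mul_assoc, ← pow_two, ← pow_succ, hq3])).symm
  have e4 : q⁻¹ * O.T.t = O.T.t * q := by
    rw [← hinv, mul_assoc (O.T.t * q), O.T.t2, mul_one]
  calc n * q * O.T.t * (n * q)⁻¹ = n * (q * (O.T.t * q⁻¹)) * n⁻¹ := by group
    _ = n * (O.T.t * q) * n⁻¹ := by rw [e2, ← mul_assoc q q, e3, e4]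
    _ = x := by rw [← hwq, hw]; group

/-- Every involution is conjugate to the standard one, with centraliser in its conjugate. -/
theorem invol_conj_all {x : G} (h2 : x * x = 1) (h1 : x ≠ 1) : ∃ g : G, g * O.T.t * g⁻¹ = x := by
  have ht1 : O.T.t ≠ 1 := fun h => by
    have h' := congrArg (fun z : Aff => z.A) (O.af_injective ((O.af_t.trans h).trans (map_one O.af).symm))
    exact absurd h' (show ¬ dT = 1 from by decide +kernel)
  rcases Nat.even_or_odd (orderOf (x * O.T.t)) with he | ho
  · obtain ⟨w, hw1, hw2, hwx, hwt⟩ := exists_comm_invol h2 O.T.t2 he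
    obtain ⟨g, hg, rfl⟩ := O.invol_conj (O.cent_t_le hwt) hw2 hw1
    have h3 : g⁻¹ * x * g * O.T.t = O.T.t * (g⁻¹ * x * g) := by
      calc g⁻¹ * x * g * O.T.t = g⁻¹ * (x * (g * O.T.t * g⁻¹)) * g := by group
        _ = _ := by rw [← hwx]; group
    have hxN : x ∈ O.N := by
      have := mul_mem (mul_mem hg (O.cent_t_le h3)) (inv_mem hg)
      simpa [mul_assoc] using this
    obtain ⟨k, -, hk⟩ := O.invol_conj hxN h2 h1
    exact ⟨k, hk⟩
  · have ox : orderOf x = 2 := orderOf_eq_prime (by rw [pow_two, h2]) h1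
    have ot : orderOf O.T.t = 2 := orderOf_eq_prime (by rw [pow_two, O.T.t2]) ht1
    obtain ⟨g, hg⟩ := isConj_iff.1 (Cfsg.Lib.Invol.isConj_of_odd ot ox (by
      rwa [show O.T.t * x = (x * O.T.t)⁻¹ by
        rw [_root_.mul_inv_rev, inv_eq_of_mul_eq_one_right h2, inv_eq_of_mul_eq_one_right O.T.t2], orderOf_inv]))
    exact ⟨g, hg⟩

theorem invol_cent_le {w g : G} (hw : w ∈ O.N) (h2 : w * w = 1) (h1 : w ≠ 1) (hg : g * w = w * g) : g ∈ O.N := by
  obtain ⟨k, hk, rfl⟩ := O.invol_conj hw h2 h1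
  have h3 : k⁻¹ * g * k * O.T.t = O.T.t * (k⁻¹ * g * k) := by
    calc k⁻¹ * g * k * O.T.t = k⁻¹ * (g * (k * O.T.t * k⁻¹)) * k := by group
      _ = _ := by rw [hg]; group
  have := mul_mem (mul_mem hk (O.cent_t_le h3)) (inv_mem hk)
  simpa [mul_assoc] using this

theorem cent_t_card : Nat.card (centralizer ({O.T.t} : Set G)) ≤ 144 := by
  classical
  have hpar : ∀ x : centralizer ({O.T.t} : Set G), ∃ y : Aff, O.af y = x ∧ y * Aff.li dT = Aff.li dT * y := by
    intro x
    have hx : (x : G) * O.T.t = O.T.t * x := mem_centralizer_singleton_iff.1 x.2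
    obtain ⟨y, hy⟩ := O.exists_af (O.cent_t_le hx)
    exact ⟨y, hy, O.af_injective (by rw [map_mul, map_mul, O.af_t, hy, hx])⟩
  choose y hy hyt using hpar
  let blk : Aff → Fin 2 → Fin 2 → ZMod 3 := fun a i j => a.A.1 i.succ j.succ
  have hshape : ∀ a : Aff, a * Aff.li dT = Aff.li dT * a →
      a.v 1 = 0 ∧ a.v 2 = 0 ∧ a.A.1 0 1 = 0 ∧ a.A.1 0 2 = 0 ∧ a.A.1 1 0 = 0 ∧ a.A.1 2 0 = 0 := by
    intro a ha
    have hv := congrArg Aff.v ha
    have hA := congrArg (fun z : Aff => z.A.1) ha
    simp only [Aff.mul_v, Matrix.mulVec_zero, add_zero, zero_add] at hv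
    simp only [Aff.mul_A, Matrix.SpecialLinearGroup.coe_mul] at hA
    have e : ∀ i j, (a.A.1 * dT.1) i j = (dT.1 * a.A.1) i j := fun i j => by rw [hA]
    have v1 := congrFun hv 1
    have v2 := congrFun hv 2
    simp [dT, Matrix.mulVec, dotProduct, Fin.sum_univ_three] at v1 v2
    have e01 := e 0 1
    have e02 := e 0 2
    have e10 := e 1 0
    have e20 := e 2 0
    simp [dT, Matrix.mul_apply, Fin.sum_univ_three] at e01 e02 e10 e20
    refine ⟨?_, ?_, ?_, ?_, ?_, ?_⟩ <;> grind
  have hblk : ∀ x, blk (y x) 0 0 * blk (y x) 1 1 - blk (y x) 0 1 * blk (y x) 1 0 ≠ 0 := by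
    intro x h
    obtain ⟨-, -, a1, a2, a3, a4⟩ := hshape _ (hyt x)
    have hdet := (y x).A.2
    rw [Matrix.det_fin_three, a1, a2, a3, a4] at hdet
    simp only [blk, Fin.succ_zero_eq_one, Fin.succ_one_eq_two] at h
    have h0 : (y x).A.1 0 0 * ((y x).A.1 1 1 * (y x).A.1 2 2 - (y x).A.1 1 2 * (y x).A.1 2 1) = 1 := by
      linear_combination hdet
    rw [h, mul_zero] at h0
    exact zero_ne_one h0
  refine (Nat.card_le_card_of_injective (fun x => ((y x).v 0,
    (⟨blk (y x), hblk x⟩ : {b : Fin 2 → Fin 2 → ZMod 3 // b 0 0 * b 1 1 - b 0 1 * b 1 0 ≠ 0}))) ?_).trans ?_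
  · intro x x' he
    simp only [Prod.mk.injEq, Subtype.mk.injEq] at he
    obtain ⟨h0, hb⟩ := he
    obtain ⟨b1, b2, a1, a2, a3, a4⟩ := hshape _ (hyt x)
    obtain ⟨b1', b2', a1', a2', a3', a4'⟩ := hshape _ (hyt x')
    have e11 := congrFun (congrFun hb 0) 0
    have e12 := congrFun (congrFun hb 0) 1
    have e21 := congrFun (congrFun hb 1) 0
    have e22 := congrFun (congrFun hb 1) 1
    simp only [blk, Fin.succ_zero_eq_one, Fin.succ_one_eq_two] at e11 e12 e21 e22
    have d1 := (y x).A.2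
    have d2 := (y x').A.2
    rw [Matrix.det_fin_three, a1, a2, a3, a4] at d1
    rw [Matrix.det_fin_three, a1', a2', a3', a4', ← e11, ← e12, ← e21, ← e22] at d2
    have e00 : (y x).A.1 0 0 = (y x').A.1 0 0 := by
      have hu : ∀ a b d : ZMod 3, a * d = 1 → b * d = 1 → a = b := by decide
      refine hu _ _ ((y x).A.1 1 1 * (y x).A.1 2 2 - (y x).A.1 1 2 * (y x).A.1 2 1) ?_ ?_
      · linear_combination d1
      · linear_combination d2
    have hyy : y x = y x' := by
      refine Aff.ext ?_ (Subtype.ext ?_)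
      · funext i
        fin_cases i <;> simp [h0, b1, b2, b1', b2']
      · ext i j
        fin_cases i <;> fin_cases j <;> simp [a1, a2, a3, a4, a1', a2', a3', a4', e00, e11, e12, e21, e22]
    exact Subtype.ext ((hy x).symm.trans ((congrArg O.af hyy).trans (hy x')))
  · rw [Nat.card_prod, Nat.card_zmod, Nat.card_eq_fintype_card, Fintype.card_subtype, card_block]

/-- The normaliser of the plane is everything. -/
theorem N_eq_top : O.N = ⊤ := by
  classical
  haveI : Fintype G := Fintype.ofFinite G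
  set C : Subgroup G := centralizer ({O.T.t} : Set G)
  have hCN : C ≤ O.N := fun g hg => O.cent_t_le (mem_centralizer_singleton_iff.1 hg)
  have ht1 : O.T.t ≠ 1 := fun h => by
    have h' := congrArg (fun z : Aff => z.A) (O.af_injective ((O.af_t.trans h).trans (map_one O.af).symm))
    exact absurd h' (show ¬ dT = 1 from by decide +kernel)
  -- counting the conjugates
  have horb : ∀ H : Subgroup G, Nat.card {x : G // ∃ g ∈ H, g * O.T.t * g⁻¹ = x} = C.relIndex H := by
    intro H
    rw [Subgroup.relIndex, Subgroup.index_eq_card]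
    refine (Nat.card_eq_of_bijective (Quotient.lift (fun g : H => (⟨(g : G) * O.T.t * (g : G)⁻¹, g, g.2, rfl⟩ :
      {x : G // ∃ g ∈ H, g * O.T.t * g⁻¹ = x})) fun a b hab => ?_) ⟨?_, ?_⟩).symm
    · have h : (a : G)⁻¹ * b ∈ C := mem_subgroupOf.1 (QuotientGroup.leftRel_apply.1 hab)
      refine Subtype.ext ?_
      show (a : G) * O.T.t * (a : G)⁻¹ = (b : G) * O.T.t * (b : G)⁻¹
      have e := mem_centralizer_singleton_iff.1 h
      calc (a : G) * O.T.t * (a : G)⁻¹ = (a : G) * (O.T.t * ((a : G)⁻¹ * b)) * (b : G)⁻¹ := by group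
        _ = _ := by rw [← e]; group
    · intro p q
      induction p using Quotient.inductionOn with
      | h a => induction q using Quotient.inductionOn with
        | h b =>
          intro e
          have e' : (a : G) * O.T.t * (a : G)⁻¹ = (b : G) * O.T.t * (b : G)⁻¹ := congrArg Subtype.val e
          refine Quotient.sound (QuotientGroup.leftRel_apply.2 (mem_subgroupOf.2
            (mem_centralizer_singleton_iff.2 ?_)))
          show (a : G)⁻¹ * b * O.T.t = O.T.t * ((a : G)⁻¹ * b)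
          calc (a : G)⁻¹ * b * O.T.t = (a : G)⁻¹ * ((b : G) * O.T.t * (b : G)⁻¹) * b := by group
            _ = _ := by rw [← e']; group
    · rintro ⟨x, g, hg, rfl⟩
      exact ⟨QuotientGroup.mk ⟨g, hg⟩, rfl⟩
  set c := C.relIndex O.N with hc0
  have hc : 1053 ≤ c := by
    have h1 : Nat.card C * c = 151632 := by
      rw [← O.F.card_N]
      have := Subgroup.card_mul_index (C.subgroupOf O.N)
      rwa [Nat.card_congr (subgroupOfEquivOfLe hCN).toEquiv] at this
    have h2 := O.cent_t_card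
    nlinarith
  have hall : Nat.card {x : G // x * x = 1 ∧ x ≠ 1} = c * O.N.index := by
    rw [Subgroup.relIndex_mul_index hCN, ← Subgroup.relIndex_top_right, ← horb ⊤]
    refine Nat.card_congr (Equiv.subtypeEquivRight fun x => ⟨fun ⟨a, b⟩ => ?_, ?_⟩)
    · obtain ⟨g, hg⟩ := O.invol_conj_all a b
      exact ⟨g, mem_top g, hg⟩
    · rintro ⟨g, -, rfl⟩
      exact ⟨by rw [show g * O.T.t * g⁻¹ * (g * O.T.t * g⁻¹) = g * (O.T.t * O.T.t) * g⁻¹ by group, O.T.t2,
        mul_one, mul_inv_cancel], fun h => ht1 (conj_eq_one_iff.1 h)⟩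
  have hin : Nat.card {x : G // (x * x = 1 ∧ x ≠ 1) ∧ x ∈ O.N} = c := by
    rw [hc0, ← horb O.N]
    refine Nat.card_congr (Equiv.subtypeEquivRight fun x => ⟨fun ⟨⟨a, b⟩, hx⟩ => O.invol_conj hx a b, ?_⟩)
    rintro ⟨g, hg, rfl⟩
    exact ⟨⟨by rw [show g * O.T.t * g⁻¹ * (g * O.T.t * g⁻¹) = g * (O.T.t * O.T.t) * g⁻¹ by group, O.T.t2,
      mul_one, mul_inv_cancel], fun h => ht1 (conj_eq_one_iff.1 h)⟩,
      mul_mem (mul_mem hg (O.F.t_mem_N O.T)) (inv_mem hg)⟩
  -- few involutions in a foreign coset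
  have hfib : ∀ x : G, x * x = 1 → x ∉ O.N →
      Nat.card {y : G // (y * y = 1 ∧ y ∉ O.N) ∧ (y : G ⧸ O.N) = (x : G ⧸ O.N)} ≤ 351 := by
    intro x hx hxN
    have hxi : x⁻¹ = x := inv_eq_of_mul_eq_one_right hx
    let D : Subgroup G :=
      { carrier := {g | g ∈ O.N ∧ x * g * x ∈ O.N}
        one_mem' := ⟨one_mem _, by rw [mul_one, hx]; exact one_mem _⟩
        mul_mem' := fun {a b} ha hb => ⟨mul_mem ha.1 hb.1, by
          rw [show x * (a * b) * x = (x * a * x) * (x⁻¹ * x⁻¹) * (x * b * x) by group, hxi, hx, mul_one]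
          exact mul_mem ha.2 hb.2⟩
        inv_mem' := fun {a} ha => ⟨inv_mem ha.1, by
          rw [show x * a⁻¹ * x = x * a⁻¹ * x⁻¹ by rw [hxi], show x * a⁻¹ * x⁻¹ = (x * a * x⁻¹)⁻¹ by group, hxi]
          exact inv_mem ha.2⟩ }
    have hV : ∀ d ∈ D, d ∈ O.F.V1 → d = 1 := by
      intro d hd hdV
      by_contra h1
      exact hxN (O.conj_mem hdV h1 (by rw [hxi]; exact hd.2))
    have hinj : Function.Injective ((O.F.sl O.T).comp (Subgroup.inclusion (show D ≤ O.N from fun d hd => hd.1))) :=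
      (injective_iff_map_eq_one _).2 fun d hd => Subtype.ext (hV d d.2 ((O.F.sl_eq_one O.T).1 hd))
    have hdvd : Nat.card D ∣ 5616 := by
      rw [← card_SL33]
      exact Subgroup.card_dvd_of_injective _ hinj
    have hodd : ¬ 2 ∣ Nat.card D := by
      intro h
      haveI : Fintype D := Fintype.ofFinite D
      let S : Type u := {d : D // d * d = 1}
      let f : S → S := fun d => ⟨⟨x * (d.1 : G) * x, d.1.2.2, by
          rw [show x * (x * (d.1 : G) * x) * x = (x * x) * (d.1 : G) * (x * x) by group, hx, one_mul, mul_one]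
          exact d.1.2.1⟩, Subtype.ext (by
          show x * (d.1 : G) * x * (x * (d.1 : G) * x) = 1
          have hd : (d.1 : G) * d.1 = 1 := congrArg Subtype.val d.2
          rw [show x * (d.1 : G) * x * (x * (d.1 : G) * x) = x * (d.1 : G) * (x * x) * (d.1 : G) * x by group, hx,
            mul_one, mul_assoc x, hd, mul_one, hx])⟩
      have heven : Even (Fintype.card S) := by
        haveI : Fact (Nat.Prime 2) := ⟨Nat.prime_two⟩
        let g : {p : Fin 2 → D // List.prod (List.ofFn p) = 1} → S := fun _ => ⟨1, one_mul 1⟩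
        obtain ⟨d, hd⟩ := exists_prime_orderOf_dvd_card' (G := D) 2 h
        have hd2 : d * d = 1 := by rw [← pow_two, ← hd, pow_orderOf_eq_one]
        by_contra hodd
        rw [Nat.not_even_iff_odd] at hodd
        let i : D → D := fun a => a⁻¹
        have h4 : Even (Fintype.card D) := even_iff_two_dvd.2 (by rwa [← Nat.card_eq_fintype_card])
        have hsplit := Fintype.card_subtype_compl (α := D) (fun a => a * a = 1)
        have h5 : Even (Fintype.card {a : D // ¬ a * a = 1}) := by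
          refine even_of_fixed_free (fun a => ⟨a.1⁻¹, fun e => a.2 (inv_injective (by simpa using e))⟩)
            (fun a => Subtype.ext (inv_inv _)) fun a e => a.2 ?_
          have e' : a.1⁻¹ = a.1 := congrArg Subtype.val e
          nth_rw 1 [← e']
          exact inv_mul_cancel _
        rw [hsplit] at h5
        have hle := Fintype.card_subtype_le (α := D) (fun a => a * a = 1)
        obtain ⟨a, ha⟩ := h4
        obtain ⟨b, hb⟩ := h5
        obtain ⟨k, hk⟩ := hodd
        change Fintype.card {a : D // a * a = 1} = 2 * k + 1 at hk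
        omega
      -- remove the identity
      let S' : Type u := {d : S // d.1 ≠ 1}
      have hS' : Odd (Fintype.card S') := by
        have h6 := Fintype.card_subtype_compl (α := S) (fun d => d.1 = 1)
        rw [show Fintype.card {d : S // d.1 = 1} = 1 from Fintype.card_eq_one_iff.2
          ⟨⟨⟨1, one_mul 1⟩, rfl⟩, fun d => Subtype.ext (Subtype.ext d.2)⟩] at h6
        obtain ⟨a, ha⟩ := heven
        have hpos : 0 < Fintype.card S := Fintype.card_pos_iff.2 ⟨⟨1, one_mul 1⟩⟩
        exact ⟨a - 1, by show Fintype.card {d : S // ¬ d.1 = 1} = _; omega⟩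
      have hfix : ∀ d : S', ∃ e : S', (e.1.1 : G) = x * (d.1.1 : G) * x := fun d =>
        ⟨⟨f d.1, fun e => d.2 (Subtype.ext (by
          have e' : x * (d.1.1 : G) * x = 1 := congrArg Subtype.val e
          calc (d.1.1 : G) = (x * x) * (d.1.1 : G) * (x * x) := by rw [hx, one_mul, mul_one]
            _ = x * (x * (d.1.1 : G) * x) * x := by group
            _ = 1 := by rw [e', mul_one, hx]))⟩, rfl⟩
      choose f' hf' using hfix
      refine Nat.not_even_iff_odd.2 hS' (even_of_fixed_free f' (fun d => ?_) fun d e => ?_)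
      · refine Subtype.ext (Subtype.ext (Subtype.ext ?_))
        rw [hf', hf', show x * (x * (d.1.1 : G) * x) * x = (x * x) * (d.1.1 : G) * (x * x) by group, hx, one_mul,
          mul_one]
      · have e' : x * (d.1.1 : G) * x = d.1.1 := (hf' d).symm.trans (congrArg (fun z : S' => (z.1.1 : G)) e)
        have hcomm : x * (d.1.1 : G) = (d.1.1 : G) * x := by
          calc x * (d.1.1 : G) = x * (d.1.1 : G) * (x * x) := by rw [hx, mul_one]
            _ = (x * (d.1.1 : G) * x) * x := by group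
            _ = (d.1.1 : G) * x := by rw [e']
        exact hxN (O.invol_cent_le d.1.1.2.1 (congrArg Subtype.val d.1.2) (fun h1 => d.2 (Subtype.ext h1)) hcomm)
    refine (Nat.card_le_card_of_injective (fun y => (⟨x * y.1, ?_, ?_⟩ : D)) ?_).trans
      (odd_divisor_le _ hdvd hodd)
    · have h := QuotientGroup.eq.1 y.2.2.symm
      rwa [hxi] at h
    · have h := QuotientGroup.eq.1 y.2.2
      rw [inv_eq_of_mul_eq_one_right y.2.1.1] at h
      rwa [show x * (x * y.1) * x = (x * x) * (y.1 * x) by group, hx, one_mul]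
    · intro y y' e
      exact Subtype.ext (mul_left_cancel (congrArg Subtype.val e))
  -- the cosets
  haveI : Fintype (G ⧸ O.N) := Fintype.ofFinite _
  set Sout := Finset.univ.filter fun x : G => x * x = 1 ∧ x ∉ O.N
  have hout : Sout.card + c = c * O.N.index := by
    rw [← hall, ← hin, Nat.card_eq_fintype_card, Nat.card_eq_fintype_card, Fintype.card_subtype,
      Fintype.card_subtype, ← Finset.card_union_of_disjoint]
    · congr 1
      ext x
      simp only [Sout, Finset.mem_union, Finset.mem_filter, Finset.mem_univ, true_and]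
      have h1N : x ∉ O.N → x ≠ 1 := fun h e => h (e ▸ one_mem _)
      by_cases hxN : x ∈ O.N <;> simp_all
    · rw [Finset.disjoint_filter]
      tauto
  have hbound : Sout.card ≤ 351 * (O.N.index - 1) := by
    have himg : Sout.card ≤ 351 * (Finset.univ.erase ((1 : G) : G ⧸ O.N)).card := by
      refine Finset.card_le_mul_card_image_of_maps_to (f := fun x : G => (x : G ⧸ O.N)) (fun x hx => ?_) _ fun q hq => ?_
      · simp only [Sout, Finset.mem_coe, Finset.mem_filter, Finset.mem_univ, true_and] at hx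
        refine Finset.mem_coe.2 (Finset.mem_erase.2 ⟨fun e => hx.2 ?_, Finset.mem_univ _⟩)
        simpa using QuotientGroup.eq.1 e
      · by_cases hex : ∃ x ∈ Sout, (x : G ⧸ O.N) = q
        · obtain ⟨x, hx, rfl⟩ := hex
          simp only [Sout, Finset.mem_filter, Finset.mem_univ, true_and] at hx
          refine le_trans (le_of_eq ?_) (hfib x hx.1 hx.2)
          rw [Nat.card_eq_fintype_card, Fintype.card_subtype]
          congr 1
          ext y
          simp [Sout]
        · push Not at hex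
          rw [Finset.filter_eq_empty_iff.2 fun x hx => hex x hx]
          simp
    rw [Finset.card_erase_of_mem (Finset.mem_univ _), Finset.card_univ, ← Nat.card_eq_fintype_card] at himg
    exact himg
  have hidx : 0 < O.N.index := Nat.pos_of_ne_zero O.N.index_ne_zero_of_finite
  refine Subgroup.index_eq_one.1 ?_
  by_contra hne
  have h2 : 2 ≤ O.N.index := by omega
  obtain ⟨k, hk⟩ : ∃ k, O.N.index = k + 2 := ⟨O.N.index - 2, by omega⟩
  rw [hk] at hout hbound
  rw [show k + 2 - 1 = k + 1 by omega] at hbound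
  nlinarith

end One

end Cfsg.Lib.LFourThree
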