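import Cfsg.Agent.Lib.LFourThree.CaseOne.Count
import Cfsg.Agent.Lib.LFourThree.Model
import Cfsg.Agent.Lib.Linear.TransvectionGL
import Cfsg.Agent.Lib.Fusion.Parts
import Cfsg.Prelude.Def_CaseTheorems

/-!
# Case one: the parabolic subgroup of `PSL(4,3)`
-/

set_option autoImplicit false
set_option linter.unusedSectionVars false
set_option linter.style.haveILetI false
set_option maxHeartbeats 2000000

namespace Cfsg.Lib.LFourThree

open Subgroup Matrix

universe u

theorem cube_eq_one : ∀ r : ZMod 3, r ^ 3 = 1 → r = 1 := by decide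

theorem unit_sq : ∀ r : ZMod 3, r ≠ 0 → r * r = 1 := by decide

theorem pow_four_det : ∀ r : ZMod 3, r ≠ 0 → r ^ 4 = 1 := by decide

/-- The special linear group of dimension three over three elements is simple. -/
theorem simple_SL33 : IsSimpleGroup SL33 := by
  have hc : Subgroup.center SL33 = ⊥ := by
    refine (Subgroup.eq_bot_iff_forall _).2 fun g hg => ?_
    obtain ⟨r, hr, hrg⟩ := Matrix.SpecialLinearGroup.mem_center_iff.1 hg
    rw [Fintype.card_fin] at hr
    rw [cube_eq_one r hr] at hrg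
    exact Subtype.ext (by rw [← hrg]; simp)
  haveI := Cfsg.Lib.Linear.PSL_simple_of_three_le (ι := Fin 3) (F := ZMod 3) (by simp)
  haveI : Nontrivial SL33 := Finite.one_lt_card_iff_nontrivial.1 (by rw [card_SL33]; norm_num)
  exact ((QuotientGroup.quotientMulEquivOfEq hc).trans QuotientGroup.quotientBot).symm.isSimpleGroup

/-- A normal kernel of three-power order under a map onto `SL(3,3)` is the three-core. -/
theorem pCore_eq_ker {H : Type u} [Group H] [Finite H] (f : H →* SL33) (hf : Function.Surjective f)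
    (h3 : IsPGroup 3 f.ker) : Cfsg.pCore 3 H = f.ker := by
  refine le_antisymm ?_ (Cfsg.Lib.Fusion.le_pCore inferInstance h3)
  haveI := simple_SL33
  have hp : IsPGroup 3 ((Cfsg.pCore 3 H).map f) := (Cfsg.Lib.Fusion.pCore_isPGroup 3).map f
  rcases IsSimpleGroup.eq_bot_or_eq_top_of_normal ((Cfsg.pCore 3 H).map f)
    (Subgroup.Normal.map inferInstance f hf) with h | h
  · exact (Subgroup.map_eq_bot_iff _).1 h
  · exfalso
    rw [h] at hp
    haveI : Fact (Nat.Prime 3) := ⟨Nat.prime_three⟩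
    obtain ⟨k, hk⟩ := IsPGroup.iff_card.1 hp
    rw [Subgroup.card_top, card_SL33] at hk
    have h2 : 2 ∣ 3 ^ k := hk ▸ (by norm_num : 2 ∣ 5616)
    have := Nat.prime_two.dvd_of_dvd_pow h2
    norm_num at this

/-- The matrix of an affine map. -/
def mat4 (x : Aff) : Matrix (Fin 4) (Fin 4) (ZMod 3) :=
  !![x.A.1 0 0, x.A.1 0 1, x.A.1 0 2, x.v 0; x.A.1 1 0, x.A.1 1 1, x.A.1 1 2, x.v 1;
    x.A.1 2 0, x.A.1 2 1, x.A.1 2 2, x.v 2; 0, 0, 0, 1]

theorem mat4_mul (x y : Aff) : mat4 (x * y) = mat4 x * mat4 y := by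
  ext i j
  fin_cases i <;> fin_cases j <;>
    simp [mat4, Aff.mul_v, Aff.mul_A, Matrix.mul_apply, Fin.sum_univ_four, Fin.sum_univ_three, Matrix.mulVec,
      dotProduct] <;> ring

theorem mat4_det (x : Aff) : (mat4 x).det = 1 := by
  have h := x.A.2
  rw [Matrix.det_fin_three] at h
  rw [Matrix.det_succ_row _ 3]
  simp [mat4, Fin.sum_univ_four, Fin.succAbove, Matrix.det_fin_three]
  linear_combination h

theorem mat4_one : mat4 1 = 1 := by
  ext i j
  fin_cases i <;> fin_cases j <;> simp [mat4, Aff.one_v, Aff.one_A]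

/-- The parabolic embedding. -/
def ext4 : Aff →* SL43 where
  toFun x := ⟨mat4 x, mat4_det x⟩
  map_one' := Subtype.ext mat4_one
  map_mul' x y := Subtype.ext (mat4_mul x y)

theorem ext4_row (x : Aff) : (ext4 x).1 3 0 = 0 ∧ (ext4 x).1 3 3 = 1 := ⟨rfl, rfl⟩

theorem ext4_injective : Function.Injective ext4 := by
  intro x y h
  have e : ∀ i j, (ext4 x).1 i j = (ext4 y).1 i j := fun i j => by rw [h]
  refine Aff.ext ?_ (Subtype.ext ?_)
  · funext i
    fin_cases i
    · exact e 0 3
    · exact e 1 3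
    · exact e 2 3
  · ext i j
    fin_cases i <;> fin_cases j
    · exact e 0 0
    · exact e 0 1
    · exact e 0 2
    · exact e 1 0
    · exact e 1 1
    · exact e 1 2
    · exact e 2 0
    · exact e 2 1
    · exact e 2 2

/-- The map onto the parabolic subgroup. -/
def par : Aff →* Matrix.ProjectiveSpecialLinearGroup (Fin 4) (ZMod 3) :=
  (QuotientGroup.mk' (Subgroup.center SL43)).comp ext4

theorem par_injective : Function.Injective par := by
  refine (injective_iff_map_eq_one _).2 fun x hx => ?_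
  have hx' : ext4 x ∈ Subgroup.center SL43 := (QuotientGroup.eq_one_iff _).1 hx
  obtain ⟨r, -, hrg⟩ := Matrix.SpecialLinearGroup.mem_center_iff.1 hx'
  have h33 := (ext4_row x).2
  rw [← hrg] at h33
  simp at h33
  refine ext4_injective (Subtype.ext ?_)
  rw [map_one, ← hrg, h33]
  simp

theorem par_row {A : SL43} {x : Aff} (h : par x = QuotientGroup.mk' (Subgroup.center SL43) A) : A.1 3 0 = 0 := by
  obtain ⟨r, -, hrg⟩ := Matrix.SpecialLinearGroup.mem_center_iff.1 (QuotientGroup.eq.1 h)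
  have e : A.1 = (ext4 x).1 * Matrix.scalar (Fin 4) r := by
    rw [hrg, ← Matrix.SpecialLinearGroup.coe_mul, mul_inv_cancel_left]
  rw [e]
  simp [Matrix.mul_apply, Fin.sum_univ_four, (ext4_row x).1, Matrix.diagonal_apply]

/-- An element of `SL(4,3)` fixing the hyperplane lies in the parabolic subgroup. -/
theorem par_surj (A : SL43) (h0 : A.1 3 0 = 0) (h1 : A.1 3 1 = 0) (h2 : A.1 3 2 = 0) :
    ∃ x, par x = QuotientGroup.mk' (Subgroup.center SL43) A := by
  have hdet := A.2
  rw [Matrix.det_succ_row _ 3] at hdet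
  simp [Fin.sum_univ_four, Fin.succAbove, h0, h1, h2, Matrix.det_fin_three] at hdet
  set d := A.1 3 3 with hd
  have hd0 : d ≠ 0 := by
    intro h
    rw [h] at hdet
    simp at hdet
  let c : SL43 := ⟨Matrix.scalar (Fin 4) d, by
    rw [Matrix.scalar_apply, Matrix.det_diagonal, Fin.prod_univ_four]
    linear_combination pow_four_det d hd0⟩
  have hc : c ∈ Subgroup.center SL43 := Matrix.SpecialLinearGroup.mem_center_iff.2
    ⟨d, by rw [Fintype.card_fin]; exact pow_four_det d hd0, rfl⟩
  have hdd := unit_sq d hd0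
  let B : SL33 := ⟨!![A.1 0 0 * d, A.1 0 1 * d, A.1 0 2 * d; A.1 1 0 * d, A.1 1 1 * d, A.1 1 2 * d;
    A.1 2 0 * d, A.1 2 1 * d, A.1 2 2 * d], by
    simp [Matrix.det_fin_three]
    linear_combination (d * d) * hdet + hdd⟩
  refine ⟨⟨![A.1 0 3 * d, A.1 1 3 * d, A.1 2 3 * d], B⟩, ?_⟩
  have e : ext4 ⟨![A.1 0 3 * d, A.1 1 3 * d, A.1 2 3 * d], B⟩ = A * c := by
    apply Subtype.ext
    ext i j
    show mat4 _ i j = (A.1 * Matrix.scalar (Fin 4) d) i j
    fin_cases i <;> fin_cases j <;>
      simp [mat4, B, Matrix.mul_apply, Fin.sum_univ_four, Matrix.diagonal_apply, h0, h1, h2, ← hd, hdd]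
  show QuotientGroup.mk' _ (ext4 _) = _
  rw [e]
  exact QuotientGroup.eq.2 (by simpa using inv_mem hc)

/-- The parabolic subgroup is maximal. -/
theorem isCoatom_par : IsCoatom par.range := by
  let π4 := QuotientGroup.mk' (Subgroup.center SL43)
  refine ⟨fun h => ?_, fun M hM => ?_⟩
  · obtain ⟨x, hx⟩ := (h ▸ Subgroup.mem_top (π4 (Matrix.SpecialLinearGroup.transvection
      (show (3 : Fin 4) ≠ 0 by decide) (1 : ZMod 3))) : _ ∈ par.range)
    have := par_row hx
    change Matrix.transvection (3 : Fin 4) 0 (1 : ZMod 3) 3 0 = 0 at this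
    simp [Matrix.transvection, Matrix.single_apply] at this
  · let W : Submodule (ZMod 3) (Fin 4 → ZMod 3) :=
      LinearMap.ker (LinearMap.proj (R := ZMod 3) (φ := fun _ : Fin 4 => ZMod 3) 3)
    have hW : ∀ v, v ∈ W ↔ v 3 = 0 := fun v => Iff.rfl
    have h0 : W ≠ ⊥ := fun h => by
      have : (Pi.single 0 1 : Fin 4 → ZMod 3) ∈ W := (hW _).2 (by simp)
      rw [h, Submodule.mem_bot] at this
      simpa using congrFun this 0
    have h1 : W ≠ ⊤ := fun h => by
      have : (Pi.single 3 1 : Fin 4 → ZMod 3) ∈ W := h ▸ Submodule.mem_top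
      simpa using (hW _).1 this
    have hstab : ∀ A : SL43, Matrix.SpecialLinearGroup.toGL A ∈ Cfsg.Geo.subspaceStabilizer W →
        π4 A ∈ par.range := by
      intro A hA
      have key : ∀ j : Fin 4, j ≠ 3 → A.1 3 j = 0 := fun j hj => by
        have := (hW _).1 (((Cfsg.Lib.Linear.mem_subspaceStabilizer_iff W _).1 hA (Pi.single j 1)).1
          ((hW _).2 (by simp [hj.symm])))
        simpa [Matrix.mulVec_single] using this
      exact par_surj A (key 0 (by decide)) (key 1 (by decide)) (key 2 (by decide))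
    let L : Subgroup (GL (Fin 4) (ZMod 3)) := (M.comap π4).map Matrix.SpecialLinearGroup.toGL
    have hsl : Cfsg.Geo.specialLinear (Fin 4) (ZMod 3) =
        (Matrix.SpecialLinearGroup.toGL : SL43 →* GL (Fin 4) (ZMod 3)).range := Cfsg.Lib.Linear.range_toGL.symm
    have hle : L ≤ Cfsg.Geo.specialLinear (Fin 4) (ZMod 3) := by
      rw [hsl]
      exact Subgroup.map_le_range _ _
    have hge : Cfsg.Geo.subspaceStabilizer W ⊓ Cfsg.Geo.specialLinear (Fin 4) (ZMod 3) ≤ L := by
      rintro g ⟨hg, hg'⟩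
      rw [hsl] at hg'
      obtain ⟨A, rfl⟩ := hg'
      exact ⟨A, hM.le (hstab A hg), rfl⟩
    rcases (Cfsg.Lib.Linear.isMaximalIn_subspaceStabilizer_SL W h0 h1).2 L hge hle with e | e
    · refine absurd (le_antisymm (fun m hm => ?_) hM.le) hM.ne'
      obtain ⟨A, rfl⟩ := QuotientGroup.mk'_surjective (Subgroup.center SL43) m
      have hA : Matrix.SpecialLinearGroup.toGL A ∈ L := ⟨A, hm, rfl⟩
      rw [e] at hA
      exact hstab A hA.1
    · refine eq_top_iff.2 fun m _ => ?_
      obtain ⟨A, rfl⟩ := QuotientGroup.mk'_surjective (Subgroup.center SL43) m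
      have hA : Matrix.SpecialLinearGroup.toGL A ∈ L := by
        rw [e, hsl]; exact ⟨A, rfl⟩
      obtain ⟨B, hB, hBA⟩ := hA
      rw [← Cfsg.Lib.Linear.toGL_injective' hBA]
      exact hB

namespace Fr

/-- In case one the group is the maximal parabolic subgroup of `PSL(4,3)`. -/
theorem case_one {G : Type u} [Group G] [Finite G] (F : Fr G) (h : ¬ F.CaseTwo) :
    ∃ P : Subgroup (Matrix.ProjectiveSpecialLinearGroup (Fin 4) (ZMod 3)),
      IsCoatom P ∧ Nat.card (Cfsg.pCore 3 P) = 27 ∧
      Nonempty (P ⧸ Cfsg.pCore 3 P ≃* Matrix.SpecialLinearGroup (Fin 3) (ZMod 3)) ∧ Nonempty (G ≃* P) := by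
  obtain ⟨O, -⟩ := One.exists_one F h
  have hbij : Function.Bijective O.af :=
    ⟨O.af_injective, fun g => O.exists_af (by rw [O.N_eq_top]; exact Subgroup.mem_top g)⟩
  let e : Aff ≃* par.range := MonoidHom.ofInjective par_injective
  let proj : Aff →* SL33 := MonoidHom.mk' (fun x => x.A) fun x y => rfl
  let f : par.range →* SL33 := proj.comp e.symm.toMonoidHom
  have hf : Function.Surjective f := fun A =>
    ⟨e (Aff.li A), by show (e.symm (e (Aff.li A))).A = A; rw [e.symm_apply_apply]⟩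
  have h3 : IsPGroup 3 f.ker := fun g => ⟨1, Subtype.ext (e.symm.injective (by
    show e.symm ((g : par.range) ^ 3 ^ 1) = e.symm 1
    have hA : (e.symm (g : par.range)).A = 1 := g.2
    rw [pow_one, map_pow, map_one, pow_succ, pow_two]
    refine Aff.ext ?_ (by simp [Aff.mul_A, Aff.one_A, hA])
    simp only [Aff.mul_v, Aff.mul_A, hA, Matrix.SpecialLinearGroup.coe_one, Matrix.one_mulVec, one_mul, Aff.one_v]
    funext i
    exact (by decide : ∀ a : ZMod 3, a + a + a = 0) _))⟩
  have hcore := pCore_eq_ker f hf h3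
  have hcard : Nat.card par.range = 151632 := by
    rw [← Nat.card_congr e.toEquiv, One.card_aff]
  refine ⟨par.range, isCoatom_par, ?_, ⟨(QuotientGroup.quotientMulEquivOfEq hcore).trans
    (QuotientGroup.quotientKerEquivOfSurjective f hf)⟩, ⟨(MulEquiv.ofBijective O.af hbij).symm.trans e⟩⟩
  have h1 := Subgroup.card_eq_card_quotient_mul_card_subgroup f.ker
  rw [hcard, Nat.card_congr (QuotientGroup.quotientKerEquivOfSurjective f hf).toEquiv, card_SL33] at h1
  rw [hcore]
  omega

end Fr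

end Cfsg.Lib.LFourThree
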