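import Cfsg.Agent.Lib.LFourThree.Levi
import Cfsg.Agent.Lib.LFourThree.Signalizer

/-!
# The affine model of the normaliser of the plane
-/

set_option autoImplicit false
set_option linter.unusedSectionVars false
set_option linter.style.haveILetI false

namespace Cfsg.Lib.LFourThree

open Subgroup Cfsg.Lib.PSpThree Matrix

/-- The vectors of the plane. -/
abbrev V3 : Type := Fin 3 → ZMod 3

/-- The affine group of the space of dimension three, with linear part of determinant one. -/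
structure Aff : Type where
  /-- The translation. -/
  v : V3
  /-- The linear part. -/
  A : SL33

namespace Aff

@[ext] theorem ext {x y : Aff} (h1 : x.v = y.v) (h2 : x.A = y.A) : x = y := by
  cases x; cases y; simp_all

instance : DecidableEq Aff := fun x y =>
  decidable_of_iff (x.v = y.v ∧ x.A = y.A) ⟨fun h => ext h.1 h.2, fun h => h ▸ ⟨rfl, rfl⟩⟩

instance : Mul Aff := ⟨fun x y => ⟨x.v + x.A.1 *ᵥ y.v, x.A * y.A⟩⟩

instance : One Aff := ⟨⟨0, 1⟩⟩

instance : Inv Aff := ⟨fun x => ⟨-(x.A⁻¹.1 *ᵥ x.v), x.A⁻¹⟩⟩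

theorem mul_v (x y : Aff) : (x * y).v = x.v + x.A.1 *ᵥ y.v := rfl

theorem mul_A (x y : Aff) : (x * y).A = x.A * y.A := rfl

theorem one_v : (1 : Aff).v = 0 := rfl

theorem one_A : (1 : Aff).A = 1 := rfl

instance : Group Aff where
  mul_assoc x y z := by
    refine ext ?_ (mul_assoc _ _ _)
    simp only [mul_v, mul_A, Matrix.SpecialLinearGroup.coe_mul, Matrix.mulVec_add, Matrix.mulVec_mulVec, add_assoc]
  one_mul x := by
    refine ext ?_ (one_mul _)
    simp only [mul_v, one_v, one_A, Matrix.SpecialLinearGroup.coe_one, Matrix.one_mulVec, zero_add]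
  mul_one x := by
    refine ext ?_ (mul_one _)
    simp only [mul_v, one_v, Matrix.mulVec_zero, add_zero]
  inv_mul_cancel x := by
    refine ext ?_ (inv_mul_cancel x.A)
    show -(x.A⁻¹.1 *ᵥ x.v) + x.A⁻¹.1 *ᵥ x.v = 0
    exact neg_add_cancel _

instance : Finite Aff := Finite.of_injective (fun x => (x.v, x.A)) fun x y h => by
  simp only [Prod.mk.injEq] at h
  exact ext h.1 h.2

/-- The translations. -/
abbrev tr (v : V3) : Aff := ⟨v, 1⟩

/-- The linear maps. -/
abbrev li (A : SL33) : Aff := ⟨0, A⟩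

theorem tr_mul_li (v : V3) (A : SL33) : tr v * li A = ⟨v, A⟩ := by
  refine ext ?_ (one_mul A)
  simp [mul_v]

theorem conj_tr (x : Aff) (v : V3) : x * tr v * x⁻¹ = tr (x.A.1 *ᵥ v) := by
  rw [mul_inv_eq_iff_eq_mul]
  refine ext ?_ (by simp [mul_A])
  simp [mul_v, add_comm]

end Aff

namespace Data

variable {G : Type*} [Group G] [Finite G] (D : Data G)

theorem tor_aux {y : G} (hy : y ∈ D.Q) (hyz : y ∉ zpowers D.z) {D' : Data G} (hD' : D'.z = y)
    {g : G} (hg : g ∈ D.C) (hgQ : g ∈ D'.Q) (hgp : D.π ⟨g, hg⟩ ≠ 1) : Nonempty (Tor D) := by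
  obtain ⟨t, ht, t2, tp, tinv⟩ := D.exists_inverting hy hyz
  set k := t * g * t⁻¹ * g⁻¹ with hk
  have hkC : k ∈ D.C := mul_mem (mul_mem (mul_mem ht hg) (inv_mem ht)) (inv_mem hg)
  have hkQ : k ∈ D.Q := (D.ker ⟨k, hkC⟩).1 (by
    rw [show (⟨k, hkC⟩ : D.C) = ⟨t, ht⟩ * ⟨g, hg⟩ * ⟨t, ht⟩⁻¹ * ⟨g, hg⟩⁻¹ from rfl, map_mul, map_mul, map_mul,
      map_inv, map_inv, tp, inv_neg, inv_one, neg_one_mul, mul_neg, mul_one, neg_neg, mul_inv_cancel])
  have hk' : k ∈ D'.Q := by
    refine mul_mem (D'.norm_Q ?_ hgQ) (inv_mem hgQ)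
    rw [hD', tinv]
    exact inv_mem (mem_zpowers _)
  have e1 : t⁻¹ = t := inv_eq_of_mul_eq_one_right t2
  have e2 : t * g * t⁻¹ = k * g := by rw [hk]; group
  have e3 : t * k * t⁻¹ = k⁻¹ := by
    calc t * k * t⁻¹ = (t * t) * g * t⁻¹ * g⁻¹ * t⁻¹ := by rw [hk]; group
      _ = g * t⁻¹ * g⁻¹ * t⁻¹ := by rw [t2, one_mul]
      _ = g * t * g⁻¹ * t⁻¹ := by nth_rw 1 [e1]
      _ = k⁻¹ := by rw [hk]; group
  refine ⟨⟨t, ht, t2, tp, k⁻¹ * g, mul_mem (inv_mem hkC) hg, D'.Q_exp _ (mul_mem (inv_mem hk') hgQ), ?_, ?_⟩⟩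
  · intro h
    refine hgp ?_
    rwa [show (⟨k⁻¹ * g, mul_mem (inv_mem hkC) hg⟩ : D.C) = ⟨k, hkC⟩⁻¹ * ⟨g, hg⟩ from rfl, map_mul, map_inv,
      (D.ker ⟨k, hkC⟩).2 hkQ, inv_one, one_mul] at h
  · have h3 : k * k = k⁻¹ := (inv_eq_of_mul_eq_one_right (by
      rw [← mul_assoc, ← pow_two, ← pow_succ]; exact D.Q_exp k hkQ)).symm
    calc t * (k⁻¹ * g) = (t * k * t⁻¹)⁻¹ * (t * g * t⁻¹) * t := by group
      _ = k * k * g * t := by rw [e3, e2, inv_inv]; group
      _ = k⁻¹ * g * t := by rw [h3]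

end Data

namespace Fr

variable {G : Type*} [Group G] [Finite G] (F : Fr G)

theorem nonempty_tor : Nonempty (Tor F.D) := by
  obtain ⟨-, c, hc, hcp⟩ := F.link.symm.card_R
  exact F.D.tor_aux F.link.1 F.link.2 rfl c.2 hc hcp

end Fr

/-- A frame, a torus, a complement, and no conjugate in the second plane outside the centre. -/
structure One (G : Type*) [Group G] [Finite G] where
  /-- The frame. -/
  F : Fr G
  /-- The torus. -/
  T : Tor F.D
  /-- The complement. -/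
  K : F.Comp T
  not_two : ¬ F.CaseTwo

namespace One

variable {G : Type*} [Group G] [Finite G]

theorem exists_one (F : Fr G) (h : ¬ F.CaseTwo) : ∃ O : One G, O.F = F := by
  obtain ⟨T⟩ := F.nonempty_tor
  obtain ⟨K⟩ := F.nonempty_comp T
  exact ⟨⟨F, T, K, h⟩, rfl⟩

variable (O : One G)

/-- The normaliser of the plane. -/
abbrev N : Subgroup G := O.F.N

/-- The affine parametrisation. -/
noncomputable def af : Aff →* G where
  toFun x := O.F.pt O.T x.v * O.K.psi x.A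
  map_one' := by rw [Aff.one_v, Aff.one_A, O.F.pt_zero, map_one, one_mul]
  map_mul' x y := by
    rw [Aff.mul_v, Aff.mul_A, O.F.pt_add, map_mul, ← O.K.psi_apply]
    group

theorem af_def (x : Aff) : O.af x = O.F.pt O.T x.v * O.K.psi x.A := rfl

theorem af_tr (v : V3) : O.af (Aff.tr v) = O.F.pt O.T v := by rw [af_def, map_one, mul_one]

theorem af_z : O.af (Aff.tr ![1, 0, 0]) = O.F.z := by rw [af_tr, O.F.pt_single]

theorem af_mem (x : Aff) : O.af x ∈ O.N :=
  mul_mem (O.F.V1_le_N (O.F.pt_mem O.T _)) (O.K.le (O.K.psi_mem _))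

theorem af_injective : Function.Injective O.af := by
  refine (injective_iff_map_eq_one _).2 fun x hx => ?_
  rw [af_def] at hx
  have hA : O.K.psi x.A ∈ O.F.V1 := by
    rw [← inv_eq_of_mul_eq_one_right hx]
    exact inv_mem (O.F.pt_mem O.T _)
  have h1 := O.K.disj _ (O.K.psi_mem _) hA
  rw [h1, mul_one] at hx
  refine Aff.ext ?_ ?_
  · exact O.F.pt_injective O.T (hx.trans (O.F.pt_zero O.T).symm)
  · exact O.K.psi_injective (h1.trans (map_one O.K.psi).symm)

theorem exists_af {g : G} (hg : g ∈ O.N) : ∃ x, O.af x = g := by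
  obtain ⟨v, hv, k, hk, e⟩ := O.K.cover g hg
  obtain ⟨w, rfl⟩ := O.F.pt_surj O.T hv
  refine ⟨⟨w, O.F.sl O.T ⟨k, O.K.le hk⟩⟩, ?_⟩
  rw [af_def, e, O.K.psi_unique hk rfl]

theorem af_mem_V1 {x : Aff} : O.af x ∈ O.F.V1 ↔ x.A = 1 := by
  constructor
  · intro h
    rw [af_def] at h
    have h1 := mul_mem (inv_mem (O.F.pt_mem O.T x.v)) h
    rw [inv_mul_cancel_left] at h1
    exact O.K.psi_injective ((O.K.disj _ (O.K.psi_mem _) h1).trans (map_one O.K.psi).symm)
  · intro h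
    rw [af_def, h, map_one, mul_one]
    exact O.F.pt_mem O.T _

theorem card_range : Nat.card O.af.range = 151632 := by
  rw [show O.af.range = O.N from le_antisymm (by rintro _ ⟨x, rfl⟩; exact O.af_mem x)
    fun g hg => O.exists_af hg, O.F.card_N]

theorem card_aff : Nat.card Aff = 151632 := by
  have e : Aff ≃ V3 × SL33 := ⟨fun x => (x.v, x.A), fun p => ⟨p.1, p.2⟩, fun _ => rfl, fun _ => rfl⟩
  rw [Nat.card_congr e, Nat.card_prod, card_SL33, Nat.card_fun, Nat.card_zmod, Nat.card_fin]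
  norm_num

theorem af_row (p q : ZMod 3) : O.af (Aff.li (rowU p q)) ∈ O.F.D.Q := by
  rw [af_def, O.F.pt_zero, one_mul]
  exact O.K.row_mem_Q p q

theorem af_t : O.af (Aff.li dT) = O.T.t := by rw [af_def, O.F.pt_zero, one_mul, O.K.psi_dT]

end One

end Cfsg.Lib.LFourThree
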