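import Cfsg.Agent.Lib.LFourThree.CaseOne.Model
import Cfsg.Agent.Lib.Fusion.Alperin

/-!
# Case one: the conjugates inside the normaliser of the plane
-/

set_option autoImplicit false
set_option linter.unusedSectionVars false
set_option linter.style.haveILetI false

namespace Cfsg.Lib.LFourThree

open Subgroup Cfsg.Lib.PSpThree Matrix Cfsg.Lib.Recog.SingleBond

/-- The upper unitriangular matrices. -/
def upU (p q r : ZMod 3) : SL33 := ⟨!![1, p, q; 0, 1, r; 0, 0, 1], by revert p q r; decide +kernel⟩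

/-- The regular unipotent matrices commuting with the standard one. -/
abbrev regU (b c : ZMod 3) : SL33 := upU b c b

theorem upper_eq : ∀ (r : ZMod 3) (p q : ZMod 3), rowU p q * blockB (uU ^ r.val) = upU p (q + p * r) r := by
  decide +kernel

theorem transvection_conj : ∀ q r : ZMod 3, r ≠ 0 → ∃ P : SL33, P * rowU 1 0 * P⁻¹ = upU 0 q r := by
  intro q r hr
  refine ⟨⟨!![q, 0, r; r, 0, 0; 0, 1, 0], ?_⟩, ?_⟩
  · revert q r; decide +kernel
  · refine mul_inv_eq_iff_eq_mul.2 ?_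
    revert q r
    decide +kernel

theorem regular_conj : ∀ p q r : ZMod 3, p ≠ 0 → r ≠ 0 → ∃ P : SL33, P * regU 1 0 * P⁻¹ = upU p q r := by
  intro p q r hp hr
  refine ⟨⟨!![r, p * q, 0; 0, p * r, 0; 0, 0, p], ?_⟩, ?_⟩
  · revert p q r; decide +kernel
  · refine mul_inv_eq_iff_eq_mul.2 ?_
    revert p q r
    decide +kernel

theorem regular_cube : ∀ v : V3, (Aff.mk v (regU 1 0)) ^ 3 = 1 →
    ∃ w : V3, Aff.tr w * Aff.li (regU 1 0) * (Aff.tr w)⁻¹ = Aff.mk v (regU 1 0) := by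
  decide +kernel

theorem regS_mul : ∀ k b c k' b' c' : ZMod 3, Aff.mk ![k, 0, 0] (regU b c) * Aff.mk ![k', 0, 0] (regU b' c') =
    Aff.mk ![k + k', 0, 0] (regU (b + b') (c + c' + b * b')) := by
  decide +kernel

theorem regS_cube : ∀ k b c : ZMod 3, (Aff.mk ![k, 0, 0] (regU b c)) ^ 3 = 1 := by
  decide +kernel

theorem regS_one : Aff.mk ![0, 0, 0] (regU 0 0) = (1 : Aff) := by decide +kernel

theorem regS_row : ∀ k c : ZMod 3, Aff.mk ![k, 0, 0] (regU 0 c) = Aff.tr ![k, 0, 0] * Aff.li (rowU 0 c) := by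
  decide +kernel

theorem two_ne : (2 : ZMod 3) ≠ 0 := by decide

theorem li_reg : Aff.li (regU 1 0) = Aff.mk ![0, 0, 0] (regU 1 0) := by decide +kernel

theorem z_split : Aff.mk ![1 + 0, 0, 0] (regU (0 + 0) (1 + 2 + 0 * 0)) = Aff.tr ![1, 0, 0] := by decide +kernel

theorem cent_reg {x : Aff} (h : x * Aff.li (regU 1 0) = Aff.li (regU 1 0) * x) :
    ∃ k b c, x = Aff.mk ![k, 0, 0] (regU b c) := by
  obtain ⟨v, A⟩ := x
  have hv := congrArg Aff.v h
  have hA := congrArg (fun y : Aff => y.A.1) h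
  simp only [Aff.mul_v, Matrix.mulVec_zero, add_zero, zero_add] at hv
  simp only [Aff.mul_A, Matrix.SpecialLinearGroup.coe_mul] at hA
  have e : ∀ i j, (A.1 * (regU 1 0).1) i j = ((regU 1 0).1 * A.1) i j := fun i j => by rw [hA]
  have v0 := congrFun hv 0
  have v1 := congrFun hv 1
  simp [regU, upU, Matrix.mulVec, dotProduct, Fin.sum_univ_three] at v0 v1
  have e00 := e 0 0
  have e01 := e 0 1
  have e02 := e 0 2
  have e10 := e 1 0
  have e11 := e 1 1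
  have e12 := e 1 2
  have e21 := e 2 1
  simp [regU, upU, Matrix.mul_apply, Fin.sum_univ_three] at e00 e01 e02 e10 e11 e12 e21
  have hdet := A.2
  rw [Matrix.det_fin_three] at hdet
  refine ⟨v 0, A.1 0 1, A.1 0 2, Aff.ext ?_ (Subtype.ext ?_)⟩
  · funext i
    fin_cases i <;> simp [v0, v1]
  · have k10 : A.1 1 0 = 0 := by grind
    have k20 : A.1 2 0 = 0 := by grind
    have k21 : A.1 2 1 = 0 := by grind
    have k11 : A.1 1 1 = A.1 0 0 := by grind
    have k22 : A.1 2 2 = A.1 0 0 := by grind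
    have k12 : A.1 1 2 = A.1 0 1 := by grind
    rw [k10, k20, k21, k11, k22] at hdet
    have k00 : A.1 0 0 = 1 := by
      have h3 : ∀ a : ZMod 3, a * a * a = a := by decide
      have := h3 (A.1 0 0)
      simp only [mul_zero, zero_mul, sub_zero, add_zero] at hdet
      exact this.symm.trans hdet
    ext i j
    fin_cases i <;> fin_cases j <;> simp [regU, upU, k10, k20, k21, k11, k22, k12, k00]

namespace One

variable {G : Type*} [Group G] [Finite G] (O : One G)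

theorem pure_Q {x : G} (hx : x ∈ O.F.D.Q) (hp : O.F.D.Pure x) : x ∈ O.F.V1 := by
  rcases O.F.pure_mem_Q hx hp with h | h
  · exact h
  · by_cases hz : x ∈ zpowers O.F.z
    · exact O.F.D.zp_le_pl _ hz
    · exact absurd ⟨x, h, hz, hp⟩ O.not_two

theorem pure_of_mem {b : G} (hb : b ∈ O.F.V1) (h1 : b ≠ 1) : O.F.D.Pure b := O.F.pure_V1 hb h1

theorem cent_le {b g : G} (hb : b ∈ O.F.V1) (h1 : b ≠ 1) (hg : g * b = b * g) : g ∈ O.N := by
  obtain ⟨n, hn, rfl⟩ := O.F.N_trans hb h1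
  have hc : n⁻¹ * g * n ∈ O.F.D.C := O.F.D.mem_C.2 (by
    calc n⁻¹ * g * n * O.F.z = n⁻¹ * (g * (n * O.F.z * n⁻¹)) * n := by group
      _ = O.F.z * (n⁻¹ * g * n) := by rw [hg]; group)
  have := mul_mem (mul_mem hn (O.F.C_le_N hc)) (inv_mem hn)
  simpa [mul_assoc] using this

theorem conj_V1_mem {b g : G} (hb : b ∈ O.F.V1) (h1 : b ≠ 1) (hg : g * b * g⁻¹ ∈ O.F.V1) : g ∈ O.N := by
  have h1' : g * b * g⁻¹ ≠ 1 := fun e => h1 (conj_eq_one_iff.1 e)
  obtain ⟨n, hn, e⟩ := O.F.N_trans hb h1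
  obtain ⟨n', hn', e'⟩ := O.F.N_trans hg h1'
  have hc : n'⁻¹ * g * n ∈ O.F.D.C := O.F.D.mem_C.2 (by
    calc n'⁻¹ * g * n * O.F.z = n'⁻¹ * (g * (n * O.F.z * n⁻¹) * g⁻¹) * g * n := by group
      _ = n'⁻¹ * (n' * O.F.z * n'⁻¹) * g * n := by rw [e, e']
      _ = O.F.z * (n'⁻¹ * g * n) := by group)
  have := mul_mem (mul_mem hn' (O.F.C_le_N hc)) (inv_mem hn)
  simpa [mul_assoc] using this

theorem pure_conj_iff {x g : G} : O.F.D.Pure (g * x * g⁻¹) ↔ O.F.D.Pure x := by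
  refine ⟨fun h => ?_, fun h => h.conj _ g⟩
  have := h.conj _ g⁻¹
  simpa [mul_assoc] using this

theorem af_conj (a x : Aff) : O.af (a * x * a⁻¹) = O.af a * O.af x * (O.af a)⁻¹ := by
  rw [map_mul, map_mul, map_inv]

theorem pure_cube {x : G} (h : O.F.D.Pure x) : x ^ 3 = 1 := by
  obtain ⟨g, rfl | rfl⟩ := h
  · rw [conj_pow, O.F.D.z_cube, mul_one, mul_inv_cancel]
  · rw [conj_pow, inv_pow, O.F.D.z_cube, inv_one, mul_one, mul_inv_cancel]

theorem transvection_not_pure (v : V3) (q r : ZMod 3) (hr : r ≠ 0) : ¬ O.F.D.Pure (O.af ⟨v, upU 0 q r⟩) := by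
  intro hp
  obtain ⟨P, hP⟩ := transvection_conj q r hr
  set a := Aff.li P
  set y := a⁻¹ * Aff.mk v (upU 0 q r) * a
  have hy : y.A = rowU 1 0 := by
    show P⁻¹ * upU 0 q r * P = rowU 1 0
    rw [← hP]; group
  have hyp : O.F.D.Pure (O.af y) := by
    rw [show O.af y = (O.af a)⁻¹ * O.af ⟨v, upU 0 q r⟩ * ((O.af a)⁻¹)⁻¹ by simp [y]]
    exact hp.conj _ _
  have hyQ : O.af y ∈ O.F.D.Q := by
    rw [show y = Aff.tr y.v * Aff.li (rowU 1 0) from by rw [Aff.tr_mul_li, ← hy], map_mul, O.af_tr]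
    exact mul_mem (O.F.isPlane_V1.le (O.F.pt_mem O.T _)) (O.af_row 1 0)
  have h1 := O.af_mem_V1.1 (O.pure_Q hyQ hyp)
  rw [hy] at h1
  exact absurd h1 (by decide +kernel)

theorem regular_conj_std (v : V3) (p q r : ZMod 3) (hp : p ≠ 0) (hr : r ≠ 0)
    (h3 : (Aff.mk v (upU p q r)) ^ 3 = 1) :
    ∃ a : Aff, a * Aff.li (regU 1 0) * a⁻¹ = Aff.mk v (upU p q r) := by
  obtain ⟨P, hP⟩ := regular_conj p q r hp hr
  set a := Aff.li P
  set y := a⁻¹ * Aff.mk v (upU p q r) * a with hy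
  have hyA : y.A = regU 1 0 := by
    show P⁻¹ * upU p q r * P = regU 1 0
    rw [← hP]; group
  have hy3 : y ^ 3 = 1 := by
    have e := conj_pow (a := a⁻¹) (b := Aff.mk v (upU p q r)) (i := 3)
    rw [inv_inv, h3, mul_one, inv_mul_cancel] at e
    exact e
  have ey : y = Aff.mk y.v (regU 1 0) := Aff.ext rfl hyA
  rw [ey] at hy3
  obtain ⟨w, hw⟩ := regular_cube y.v hy3
  refine ⟨a * Aff.tr w, ?_⟩
  rw [← ey] at hw
  calc a * Aff.tr w * Aff.li (regU 1 0) * (a * Aff.tr w)⁻¹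
      = a * (Aff.tr w * Aff.li (regU 1 0) * (Aff.tr w)⁻¹) * a⁻¹ := by group
    _ = _ := by rw [hw, hy]; group

theorem regS_pure_iff (hu : O.F.D.Pure (O.af (Aff.li (regU 1 0)))) {k b c : ZMod 3} (hb : b ≠ 0) :
    O.F.D.Pure (O.af ⟨![k, 0, 0], regU b c⟩) := by
  obtain ⟨a, ha⟩ := regular_conj_std ![k, 0, 0] b c b hb hb (regS_cube k b c)
  rw [← ha, O.af_conj]
  exact hu.conj _ _

theorem regS_zero_V1 {k c : ZMod 3} (hp : O.F.D.Pure (O.af ⟨![k, 0, 0], regU 0 c⟩)) : c = 0 := by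
  have hQ : O.af ⟨![k, 0, 0], regU 0 c⟩ ∈ O.F.D.Q := by
    rw [regS_row, map_mul, O.af_tr]
    exact mul_mem (O.F.isPlane_V1.le (O.F.pt_mem O.T _)) (O.af_row 0 c)
  have h1 := O.af_mem_V1.1 (O.pure_Q hQ hp)
  have h2 := congrArg (fun M : SL33 => M.1 0 2) h1
  simpa [regU, upU] using h2

/-- The centraliser of the standard regular element inside the normaliser. -/
noncomputable def regS : Subgroup G where
  carrier := {g | ∃ k b c, O.af ⟨![k, 0, 0], regU b c⟩ = g}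
  one_mem' := ⟨0, 0, 0, by rw [regS_one, map_one]⟩
  mul_mem' := by
    rintro _ _ ⟨k, b, c, rfl⟩ ⟨k', b', c', rfl⟩
    exact ⟨_, _, _, by rw [← map_mul, regS_mul]⟩
  inv_mem' := by
    rintro _ ⟨k, b, c, rfl⟩
    refine ⟨k + k, b + b, c + c + b * b, ?_⟩
    rw [← regS_mul, map_mul]
    refine eq_inv_of_mul_eq_one_left ?_
    rw [mul_assoc, ← pow_two, ← pow_succ', ← map_pow, regS_cube, map_one]

theorem not_pure_reg : ¬ O.F.D.Pure (O.af (Aff.li (regU 1 0))) := by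
  intro hu
  haveI : Fact (Nat.Prime 3) := ⟨Nat.prime_three⟩
  set u := O.af (Aff.li (regU 1 0)) with hudef
  have hSc : O.regS ≤ centralizer ({u} : Set G) := by
    rintro _ ⟨k, b, c, rfl⟩
    refine mem_centralizer_singleton_iff.2 ?_
    rw [hudef, ← map_mul, ← map_mul,
      li_reg, regS_mul, regS_mul]
    congr 2 <;> ring_nf
  have hnorm : ∀ g ∈ normalizer (O.regS : Set G), g ∈ O.N := by
    intro g hg
    have him : ∀ k c : ZMod 3, c ≠ 0 → ∃ k' c' : ZMod 3,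
        g * O.af ⟨![k, 0, 0], regU 0 c⟩ * g⁻¹ = O.af ⟨![k', 0, 0], regU 0 c'⟩ := by
      intro k c hc
      obtain ⟨k', b', c', e⟩ := (mem_normalizer_iff.1 hg _).1 ⟨k, 0, c, rfl⟩
      by_cases hb : b' = 0
      · subst hb; exact ⟨k', c', e.symm⟩
      · exfalso
        have h := O.regS_pure_iff hu (k := k') (c := c') hb
        rw [e, O.pure_conj_iff] at h
        exact hc (O.regS_zero_V1 h)
    obtain ⟨k1, c1, e1⟩ := him 1 1 one_ne_zero
    obtain ⟨k2, c2, e2⟩ := him 0 2 two_ne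
    have hz : O.F.z = O.af ⟨![1, 0, 0], regU 0 1⟩ * O.af ⟨![0, 0, 0], regU 0 2⟩ := by
      rw [← map_mul, regS_mul, ← O.af_z, z_split]
    have hgz : g * O.F.z * g⁻¹ = O.af ⟨![k1 + k2, 0, 0], regU 0 (c1 + c2)⟩ := by
      rw [hz, show g * (O.af ⟨![1, 0, 0], regU 0 1⟩ * O.af ⟨![0, 0, 0], regU 0 2⟩) * g⁻¹ =
        (g * O.af ⟨![1, 0, 0], regU 0 1⟩ * g⁻¹) * (g * O.af ⟨![0, 0, 0], regU 0 2⟩ * g⁻¹) by group, e1, e2,
        ← map_mul, regS_mul]
      simp
    refine O.conj_V1_mem O.F.isPlane_V1.z_mem O.F.D.z_ne ?_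
    have hp := O.F.D.pure_z.conj _ g
    rw [hgz] at hp
    rw [hgz, O.af_mem_V1, O.regS_zero_V1 hp]
    show regU 0 0 = 1
    exact congrArg Aff.A regS_one
  obtain ⟨g, hg⟩ := hu
  have hcard : Nat.card (centralizer ({u} : Set G)) = 5832 := by
    have hC : centralizer ({u} : Set G) = O.F.D.C.map (MulAut.conj g).toMonoidHom := by
      ext x
      rw [Subgroup.mem_map_equiv, O.F.D.mem_C, mem_centralizer_singleton_iff, MulAut.conj_symm_apply]
      have key : ∀ w : G, g * w * g⁻¹ = u →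
          (x * u = u * x ↔ g⁻¹ * x * g * w = w * (g⁻¹ * x * g)) := by
        intro w hw
        rw [← hw]
        constructor
        · intro h
          calc g⁻¹ * x * g * w = g⁻¹ * (x * (g * w * g⁻¹)) * g := by group
            _ = _ := by rw [h]; group
        · intro h
          calc x * (g * w * g⁻¹) = g * (g⁻¹ * x * g * w) * g⁻¹ := by group
            _ = _ := by rw [h]; group
      rcases hg with h | h
      · exact key _ h
      · rw [key _ h]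
        exact ⟨fun e => (Commute.inv_right_iff.1 (show Commute (g⁻¹ * x * g) O.F.z⁻¹ from e)).eq,
          fun e => (show Commute (g⁻¹ * x * g) O.F.z from e).inv_right.eq⟩
    rw [hC, Subgroup.card_map_of_injective (MulAut.conj g).injective, O.F.D.card_C]
  have hSp : IsPGroup 3 O.regS := by
    rintro ⟨_, k, b, c, rfl⟩
    exact ⟨1, Subtype.ext (by simp [← map_pow, regS_cube])⟩
  obtain ⟨P, hP⟩ := IsPGroup.exists_le_sylow (hSp.comap_subtype (K := centralizer ({u} : Set G)))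
  have hPc : Nat.card (P : Subgroup (centralizer ({u} : Set G))) = 729 := by
    rw [P.card_eq_multiplicity, hcard, show (5832 : ℕ) = 3 ^ 6 * 8 by norm_num,
      Nat.factorization_mul (by norm_num) (by norm_num), Nat.Prime.factorization_pow Nat.prime_three]
    simp [Nat.factorization_eq_zero_of_not_dvd]
  set P' := (P : Subgroup (centralizer ({u} : Set G))).map (centralizer ({u} : Set G)).subtype
  have hSP : O.regS ≤ P' := fun x hx => ⟨⟨x, hSc hx⟩, hP hx, rfl⟩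
  have hS27 : Nat.card O.regS ≤ 27 := by
    refine (Nat.card_le_card_of_surjective (fun p : ZMod 3 × ZMod 3 × ZMod 3 =>
      (⟨_, p.1, p.2.1, p.2.2, rfl⟩ : O.regS)) ?_).trans (by simp)
    rintro ⟨_, k, b, c, rfl⟩
    exact ⟨(k, b, c), rfl⟩
  have hlt : O.regS < P' := lt_of_le_of_ne hSP fun e => by
    rw [e, Subgroup.card_map_of_injective (Subgroup.subtype_injective _), hPc] at hS27
    omega
  obtain ⟨x, hx, hxS⟩ := SetLike.exists_of_lt
    (Cfsg.Lib.Fusion.lt_inf_normalizer (P.isPGroup'.map _) hlt)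
  obtain ⟨hxP, hxN⟩ := mem_inf.1 hx
  obtain ⟨⟨x, hxu⟩, -, rfl⟩ := hxP
  obtain ⟨y, rfl⟩ := O.exists_af (hnorm _ hxN)
  refine hxS ?_
  obtain ⟨k, b, c, rfl⟩ := cent_reg (x := y) (O.af_injective (by
    rw [map_mul, map_mul]; exact mem_centralizer_singleton_iff.1 hxu))
  exact ⟨k, b, c, rfl⟩

theorem pure_C {x : G} (hx : x ∈ O.F.D.C) (hp : O.F.D.Pure x) : x ∈ O.F.V1 := by
  set A := O.F.D.π ⟨x, hx⟩ with hA
  by_cases h1 : A = 1
  · exact O.pure_Q ((O.F.D.ker _).1 h1) hp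
  exfalso
  have h3 : A * A * A = 1 := by
    rw [hA, ← map_mul, ← map_mul, show (⟨x, hx⟩ * ⟨x, hx⟩ * ⟨x, hx⟩ : O.F.D.C) = 1 from
      Subtype.ext (by simpa [pow_succ] using O.pure_cube hp), map_one]
  obtain ⟨a, ha⟩ := sl_three_conj A h3 h1
  obtain ⟨r, hr, hra⟩ : ∃ r : ZMod 3, r ≠ 0 ∧ a * A * a⁻¹ = uU ^ r.val := by
    rcases ha with h | h
    · exact ⟨1, one_ne_zero, by rw [h, ZMod.val_one, pow_one]⟩
    · refine ⟨2, by decide, ?_⟩
      rw [show a * A * a⁻¹ = (a * A⁻¹ * a⁻¹)⁻¹ by group, h]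
      decide +kernel
  set y := O.K.chi a * x * (O.K.chi a)⁻¹
  have hyC : y ∈ O.F.D.C := mul_mem (mul_mem (O.K.chi_mem a) hx) (inv_mem (O.K.chi_mem a))
  have hyp : O.F.D.Pure y := hp.conj _ _
  have hπ : O.F.D.π ⟨y, hyC⟩ = uU ^ r.val := by
    rw [← hra, show (⟨y, hyC⟩ : O.F.D.C) = ⟨_, O.K.chi_mem a⟩ * ⟨x, hx⟩ * ⟨_, O.K.chi_mem a⟩⁻¹ from rfl, map_mul,
      map_mul, map_inv, O.K.pi_chi]
  obtain ⟨m, hm⟩ := O.exists_af (O.F.C_le_N hyC)
  obtain ⟨v, B⟩ := m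
  -- the linear part fixes the first vector and has the given block
  obtain ⟨k, hk, hkQ⟩ : ∃ k, k = (O.K.chi (uU ^ r.val))⁻¹ * y ∧ k ∈ O.F.D.Q :=
    ⟨_, rfl, O.F.D.eq_of_pi (a := ⟨_, O.K.chi_mem _⟩) (b := ⟨y, hyC⟩) ((O.K.pi_chi _).trans hπ.symm)⟩
  obtain ⟨n, hn⟩ := O.exists_af (O.F.C_le_N (O.F.D.Q_le hkQ))
  obtain ⟨p, q, hpq⟩ : ∃ p q, n.A = rowU p q := by
    obtain ⟨w, w', hw⟩ := O.F.coords (O.F.D.cl ⟨k, hkQ⟩)
    refine ⟨-w' 1, w' 0, ?_⟩
    have hrow : O.K.row (-w' 1) (w' 0) = O.F.D.il O.T (O.F.D.emb O.F.d w') := by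
      rw [O.K.row_val, neg_neg, show (![w' 0, w' 1] : Fin 2 → ZMod 3) = w' by funext i; fin_cases i <;> rfl]
    have hV : k * (O.K.row (-w' 1) (w' 0))⁻¹ ∈ O.F.V1 := by
      refine (O.F.D.cl_pl (x := ⟨_, mul_mem hkQ (inv_mem (O.K.row_mem_Q _ _))⟩)).2 ⟨w, ?_⟩
      have e : (⟨k * (O.K.row (-w' 1) (w' 0))⁻¹, mul_mem hkQ (inv_mem (O.K.row_mem_Q _ _))⟩ : O.F.D.Q) =
          ⟨k, hkQ⟩ * ⟨_, O.K.row_mem_Q (-w' 1) (w' 0)⟩⁻¹ := rfl
      rw [e, O.F.D.cl_mul, O.F.D.cl_inv, hw,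
        show (⟨O.K.row (-w' 1) (w' 0), O.K.row_mem_Q _ _⟩ : O.F.D.Q) = ⟨_, O.F.D.il_mem O.T _⟩ from
          Subtype.ext hrow, O.F.D.cl_il, add_neg_cancel_right]
    have e2 : O.af (n * (Aff.li (rowU (-w' 1) (w' 0)))⁻¹) ∈ O.F.V1 := by
      rw [map_mul, map_inv, hn, O.af_def, O.F.pt_zero, one_mul]
      exact hV
    have := O.af_mem_V1.1 e2
    exact mul_inv_eq_one.1 this
  have hB : B = blockB (uU ^ r.val) * rowU p q := by
    have e : O.af ⟨v, B⟩ = O.af (Aff.li (blockB (uU ^ r.val)) * n) := by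
      rw [map_mul, hn, hm, hk, O.af_def, O.F.pt_zero, one_mul]
      show y = O.K.psi (blockB (uU ^ r.val)) * ((O.K.chi (uU ^ r.val))⁻¹ * y)
      rw [show O.K.psi (blockB (uU ^ r.val)) = O.K.chi (uU ^ r.val) from rfl, mul_inv_cancel_left]
    rw [← hpq]
    exact congrArg Aff.A (O.af_injective e)
  obtain ⟨p', q', hpq'⟩ := rowU_facts.2.2.2.2 (uU ^ r.val) p q
  have hB' : B = upU p' (q' + p' * r) r := by
    rw [hB, ← upper_eq, ← hpq']; group
  rw [← hm, hB'] at hyp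
  by_cases hp0 : p' = 0
  · rw [hp0] at hyp
    exact O.transvection_not_pure v _ r hr hyp
  · obtain ⟨b, hb⟩ := regular_conj_std v p' (q' + p' * r) r hp0 hr (O.af_injective (by
      rw [map_pow, map_one, O.pure_cube hyp]))
    rw [← hb, O.af_conj, O.pure_conj_iff] at hyp
    exact O.not_pure_reg hyp

theorem pure_N {x : G} (hx : x ∈ O.N) (hp : O.F.D.Pure x) : x ∈ O.F.V1 := by
  haveI : Fact (Nat.Prime 3) := ⟨Nat.prime_three⟩
  -- an element of order three fixes a vector of the plane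
  obtain ⟨b, hb, hb1, hc⟩ : ∃ b ∈ O.F.V1, b ≠ 1 ∧ x * b = b * x := by
    by_contra hno
    push Not at hno
    let f : O.F.V1 → O.F.V1 := fun b => ⟨x * b * x⁻¹, O.F.conj_N hx b.2⟩
    have hf : ∀ b, f (f (f b)) = b := fun b => Subtype.ext (by
      show x * (x * (x * (b : G) * x⁻¹) * x⁻¹) * x⁻¹ = b
      rw [show x * (x * (x * (b : G) * x⁻¹) * x⁻¹) * x⁻¹ = x ^ 3 * (b : G) * (x ^ 3)⁻¹ by
        simp [pow_succ, mul_assoc], O.pure_cube hp]
      simp)
    let e : Equiv.Perm O.F.V1 := ⟨f, fun b => f (f b), fun b => hf b, fun b => hf b⟩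
    classical
    haveI := Fintype.ofFinite O.F.V1
    have h2 : e ^ 3 ^ 1 = 1 := Equiv.ext fun b => hf b
    obtain ⟨b, hbfix, hbne⟩ := Equiv.Perm.exists_fixed_point_of_prime' (n := 1)
      (by rw [← Nat.card_eq_fintype_card, O.F.isPlane_V1.card]; norm_num) h2 (a := 1)
      (Subtype.ext (by show x * 1 * x⁻¹ = 1; simp))
    exact hno b b.2 (fun h => hbne (Subtype.ext h))
      (mul_inv_eq_iff_eq_mul.1 (congrArg Subtype.val hbfix))
  obtain ⟨n, hn, rfl⟩ := O.F.N_trans hb hb1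
  have hy : n⁻¹ * x * n ∈ O.F.D.C := O.F.D.mem_C.2 (by
    calc n⁻¹ * x * n * O.F.z = n⁻¹ * (x * (n * O.F.z * n⁻¹)) * n := by group
      _ = O.F.z * (n⁻¹ * x * n) := by rw [hc]; group)
  have h := O.pure_C hy (by simpa using hp.conj _ n⁻¹)
  have := O.F.conj_N hn h
  simpa [mul_assoc] using this

/-- A conjugate of a plane element inside the normaliser comes from the normaliser. -/
theorem conj_mem {b g : G} (hb : b ∈ O.F.V1) (h1 : b ≠ 1) (hg : g * b * g⁻¹ ∈ O.N) : g ∈ O.N :=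
  O.conj_V1_mem hb h1 (O.pure_N hg ((O.pure_of_mem hb h1).conj _ g))

/-- The normaliser of a subgroup meeting the plane non-trivially lies in the normaliser of the plane. -/
theorem normalizer_le {R : Subgroup G} (hR : R ≤ O.N) {b : G} (hbR : b ∈ R) (hb : b ∈ O.F.V1) (h1 : b ≠ 1) :
    normalizer (R : Set G) ≤ O.N := fun _ hg =>
  O.conj_mem hb h1 (hR ((mem_normalizer_iff.1 hg b).1 hbR))

end One

end Cfsg.Lib.LFourThree
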