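import Cfsg.Agent.Lib.LFourThree.CaseOne.Pure
import Cfsg.Agent.Lib.SmithTyrer.Reduction
import Cfsg.Agent.Lib.CompositeOrder.TransferFixed

/-!
# Case one: tools for the centraliser arguments
-/

set_option autoImplicit false
set_option linter.unusedSectionVars false
set_option linter.style.haveILetI false

namespace Cfsg.Lib.LFourThree

open Subgroup

universe u

/-- A Sylow three-subgroup that is abelian, not cyclic, and inverted by its normaliser. -/
theorem st_factor {H : Type u} [Group H] [Finite H] (P : Sylow 3 H)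
    (hcomm : ∀ a ∈ (P : Subgroup H), ∀ b ∈ (P : Subgroup H), a * b = b * a)
    (hnc : ¬ IsCyclic (P : Subgroup H))
    (hinv : ∀ n ∈ normalizer ((P : Subgroup H) : Set H), n ∈ centralizer ((P : Subgroup H) : Set H) ∨
      ∀ y ∈ (P : Subgroup H), n * y * n⁻¹ = y⁻¹)
    (hex : ∃ n ∈ normalizer ((P : Subgroup H) : Set H), n ∉ centralizer ((P : Subgroup H) : Set H)) :
    normalizer ((P : Subgroup H) : Set H) ⊔ Cfsg.pPrimeCore 3 H = ⊤ := by
  haveI : Fact (Nat.Prime 3) := ⟨Nat.prime_three⟩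
  haveI : IsMulCommutative (P : Subgroup H) := ⟨⟨fun a b => Subtype.ext (hcomm _ a.2 _ b.2)⟩⟩
  haveI := Fintype.ofFinite H
  set C := centralizer ((P : Subgroup H) : Set H)
  set NP := normalizer ((P : Subgroup H) : Set H)
  have hfree : Block.FreeAction P := by
    intro y hy hy1
    refine le_antisymm ?_ (le_inf (centralizer_le (Set.singleton_subset_iff.2 hy)) (centralizer_le_normalizer _))
    rintro x ⟨hxy, hxN⟩
    rcases hinv x hxN with h | h
    · exact h
    · exfalso
      have e := h y hy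
      rw [mem_centralizer_singleton_iff.1 hxy, mul_inv_cancel_right] at e
      exact hy1 (SmithTyrer.eq_one_of_inv_eq (p := 3) (by norm_num) (Block.orderOf_sylow P hy) e.symm)
  have hCN : C.relIndex NP = 2 := by
    obtain ⟨a, ha, haC⟩ := hex
    refine Subgroup.index_eq_two_iff.2 ⟨⟨a, ha⟩, fun b => ?_⟩
    simp only [mem_subgroupOf, Subgroup.coe_mul]
    by_cases hb : (b : H) ∈ C
    · exact Or.inr ⟨hb, fun h => haC ((mul_mem_cancel_left hb).1 h)⟩
    · refine Or.inl ⟨mem_centralizer_iff.2 fun y hy => ?_, hb⟩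
      have h1 := (hinv a ha).resolve_left haC y hy
      have h2 := (hinv b b.2).resolve_left hb _ (inv_mem hy)
      rw [inv_inv] at h2
      refine (mul_inv_eq_iff_eq_mul.1 ?_).symm
      calc (b : H) * a * y * ((b : H) * a)⁻¹ = b * (a * y * a⁻¹) * (b : H)⁻¹ := by group
        _ = y := by rw [h1, h2]
  obtain ⟨K, hKn, hPK, hK⟩ := SmithTyrer.exists_normal (p := 3) (by norm_num) hnc hfree hCN
  haveI := hKn
  set S := P.subtype hPK with hS
  have hSc : ∀ x : K, x ∈ (S : Subgroup K) ↔ (x : H) ∈ (P : Subgroup H) := fun _ => Iff.rfl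
  haveI : IsMulCommutative (S : Subgroup K) :=
    ⟨⟨fun a b => Subtype.ext (Subtype.ext (hcomm _ ((hSc a.1).1 a.2) _ ((hSc b.1).1 b.2)))⟩⟩
  have hburn : normalizer ((S : Subgroup K) : Set K) ≤ centralizer ((S : Subgroup K) : Set K) := by
    intro x hx
    have hxN : (x : H) ∈ NP := by
      refine mem_normalizer_iff.2 fun v => ⟨fun hv => ?_, fun hv => ?_⟩
      · exact (hSc _).1 ((mem_normalizer_iff.1 hx ⟨v, hPK hv⟩).1 ((hSc _).2 hv))
      · have hvK : v ∈ K := by
          have := mul_mem (mul_mem (inv_mem x.2) (hPK hv)) x.2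
          simpa [mul_assoc] using this
        exact (hSc _).1 ((mem_normalizer_iff.1 hx ⟨v, hvK⟩).2 ((hSc _).2 hv))
    have hxC := hK ⟨x.2, hxN⟩
    exact mem_centralizer_iff.2 fun a ha => Subtype.ext (mem_centralizer_iff.1 hxC a ((hSc a).1 ha))
  obtain ⟨L, hL, hcompl⟩ : ∃ L : Subgroup K, L.Normal ∧ L.IsComplement' (S : Subgroup K) :=
    ⟨_, inferInstance, MonoidHom.ker_transferSylow_isComplement' S hburn⟩
  haveI := hL
  have hLp : (Nat.card L).Coprime 3 := by
    rw [Core.coprime_iff_not_dvd', ← hcompl.index_eq_card]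
    exact S.not_dvd_index
  have hLO : L.map K.subtype ≤ Cfsg.pPrimeCore 3 H :=
    (Subgroup.map_mono (Core.le_pPrimeCore' hL hLp)).trans
      (Core.pPrimeCore_map_le_of_isSubnormal (Subgroup.Normal.isSubnormal inferInstance))
  refine eq_top_iff.2 ?_
  rw [← P.normalizer_sup_eq_top' hPK]
  refine sup_le le_sup_left fun k hk => ?_
  obtain ⟨l, hl, t, ht, hlt⟩ := mem_sup_of_normal_left.1 (hcompl.sup_eq_top ▸ mem_top (⟨k, hk⟩ : K))
  rw [show k = (l : H) * t from congrArg Subtype.val hlt.symm]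
  exact mul_mem (mem_sup_right (hLO ⟨l, hl, rfl⟩)) (mem_sup_left (le_normalizer ((hSc t).1 ht)))

/-- A normal subgroup of order prime to three of a quotient by a central element of order three lifts. -/
theorem lift_coprime {H : Type u} [Group H] [Finite H] (Z : Subgroup H) [Z.Normal] (hZ : Z ≤ center H)
    (hc : Nat.card Z = 3) (O : Subgroup (H ⧸ Z)) [O.Normal] (hO : (Nat.card O).Coprime 3) :
    ∃ L : Subgroup H, L.Normal ∧ (Nat.card L).Coprime 3 ∧ L.map (QuotientGroup.mk' Z) = O := by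
  set f := QuotientGroup.mk' Z
  set M := O.comap f
  set m := Nat.card O
  have hm : ∀ x ∈ M, x ^ m ∈ Z := by
    intro x hx
    rw [← QuotientGroup.eq_one_iff]
    show f (x ^ m) = 1
    rw [map_pow]
    exact congrArg Subtype.val (pow_card_eq_one' (x := (⟨f x, hx⟩ : O)))
  have hcoord : ∀ z ∈ Z, z ^ m = 1 → z = 1 := fun z hz h => by
    refine orderOf_eq_one_iff.1 (Nat.eq_one_of_dvd_coprimes hO (orderOf_dvd_of_pow_eq_one h) ?_)
    rw [← hc]
    exact Subgroup.orderOf_dvd_natCard Z hz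
  haveI : (Z.subgroupOf M).Normal := inferInstance
  have hle : Z ≤ M := fun z hz => by
    show f z ∈ O
    rw [show f z = 1 from (QuotientGroup.eq_one_iff z).2 hz]
    exact one_mem _
  have hidx : (Z.subgroupOf M).index = m := by
    have h := Subgroup.index_comap_of_surjective O (f := f) (QuotientGroup.mk'_surjective Z)
    have h1 := Subgroup.card_mul_index (Z.subgroupOf M)
    rw [Nat.card_congr (subgroupOfEquivOfLe hle).toEquiv, hc] at h1
    have h2 := Subgroup.card_mul_index M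
    rw [h] at h2
    have h3 := Subgroup.card_mul_index O
    have h4 := Subgroup.card_eq_card_quotient_mul_card_subgroup Z
    have h5 : 0 < O.index := Nat.pos_of_ne_zero Subgroup.index_ne_zero_of_finite
    rw [hc] at h4
    have h6 : Nat.card M * O.index = (3 * m) * O.index := by rw [h2, h4, ← h3]; ring
    have h7 := Nat.eq_of_mul_eq_mul_right h5 h6
    omega
  obtain ⟨L₀, hL₀⟩ := Subgroup.exists_right_complement'_of_coprime (N := Z.subgroupOf M) (by
    rw [hidx, Nat.card_congr (subgroupOfEquivOfLe hle).toEquiv, hc]; exact hO.symm)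
  have hL₀c : Nat.card L₀ = m := by rw [← hidx]; exact hL₀.symm.index_eq_card.symm
  have hpow : ∀ x : M, x ∈ L₀ ↔ (x : H) ^ m = 1 := by
    intro x
    refine ⟨fun hx => ?_, fun hx => ?_⟩
    · have := pow_card_eq_one' (x := (⟨x, hx⟩ : L₀))
      rw [hL₀c] at this
      simpa using congrArg (fun y : L₀ => ((y : M) : H)) this
    · obtain ⟨⟨⟨a, ha⟩, ⟨l, hl⟩⟩, hal⟩ := hL₀.2 x
      have hal' : (a : H) * l = x := congrArg Subtype.val hal
      have hl' : (l : H) ^ m = 1 := by
        have := pow_card_eq_one' (x := (⟨l, hl⟩ : L₀))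
        rw [hL₀c] at this
        simpa using congrArg (fun y : L₀ => ((y : M) : H)) this
      have hc' : Commute (a : H) l := (mem_center_iff.1 (hZ (mem_subgroupOf.1 ha)) l).symm
      rw [← hal', hc'.mul_pow, hl', mul_one] at hx
      have : a = 1 := Subtype.ext (hcoord _ (mem_subgroupOf.1 ha) hx)
      subst this
      have h' : (1 : M) * l = x := hal
      rw [one_mul] at h'
      exact h' ▸ hl
  refine ⟨L₀.map M.subtype, ⟨?_⟩, ?_, le_antisymm ?_ ?_⟩
  · rintro _ ⟨x, hx, rfl⟩ g
    have hg : g * (x : H) * g⁻¹ ∈ M := (inferInstance : M.Normal).conj_mem _ x.2 g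
    exact ⟨⟨_, hg⟩, (hpow _).2 (by rw [conj_pow, (hpow x).1 hx, mul_one, mul_inv_cancel]), rfl⟩
  · rw [Subgroup.card_map_of_injective M.subtype_injective, hL₀c]
    exact hO
  · rintro _ ⟨_, ⟨x, -, rfl⟩, rfl⟩
    exact x.2
  · intro y hy
    obtain ⟨x, rfl⟩ := QuotientGroup.mk'_surjective Z y
    obtain ⟨⟨⟨a, ha⟩, ⟨l, hl⟩⟩, hal⟩ := hL₀.2 ⟨x, hy⟩
    refine ⟨l, ⟨l, hl, rfl⟩, ?_⟩
    have hal' : (a : H) * l = x := congrArg Subtype.val hal
    rw [← hal', map_mul, show f (a : H) = 1 from (QuotientGroup.eq_one_iff _).2 (mem_subgroupOf.1 ha), one_mul]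

/-- A central subgroup of order three does not create a core of order prime to three. -/
theorem quot_core_bot {H : Type u} [Group H] [Finite H] (Z : Subgroup H) [Z.Normal] (hZ : Z ≤ center H)
    (hc : Nat.card Z = 3) (h : Cfsg.pPrimeCore 3 H = ⊥) : Cfsg.pPrimeCore 3 (H ⧸ Z) = ⊥ := by
  obtain ⟨L, hLn, hLc, hL⟩ := lift_coprime Z hZ hc (Cfsg.pPrimeCore 3 (H ⧸ Z)) (Core.pPrimeCore_coprime 3 _)
  have := Core.le_pPrimeCore' hLn hLc
  rw [h, le_bot_iff] at this
  rw [← hL, this, Subgroup.map_bot]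

namespace One

variable {G : Type u} [Group G] [Finite G] (O : One G)

/-- The transfer of an element of the plane reads off its own value. -/
theorem transfer_plane {X : Subgroup G} {A : Type*} [CommGroup A] (φ : ↥(O.N.subgroupOf X) →* A) {b : X}
    (hb : (b : G) ∈ O.F.V1) (h1 : (b : G) ≠ 1) :
    MonoidHom.transfer φ b = φ ⟨b, mem_subgroupOf.2 (O.F.V1_le_N hb)⟩ := by
  have key : ∀ g : X, g⁻¹ * b * g ∈ O.N.subgroupOf X → g ∈ O.N.subgroupOf X := by
    intro g hg
    refine mem_subgroupOf.2 ?_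
    have h := O.conj_mem hb h1 (g := (g : G)⁻¹) (by simpa using mem_subgroupOf.1 hg)
    simpa using inv_mem h
  have hb3 : b ^ 3 = 1 := Subtype.ext (by
    simpa using O.F.D.Q_exp _ (O.F.isPlane_V1.le hb))
  rw [Cfsg.Lib.CompOrd.transfer_fixed φ Nat.prime_three hb3 (mem_subgroupOf.2 (O.F.V1_le_N hb)) fun g hg => ?_]
  · have : Unique {x : X ⧸ O.N.subgroupOf X // b • x = x} :=
      { default := ⟨(1 : X), by
          rw [MulAction.Quotient.smul_coe, smul_eq_mul, QuotientGroup.eq]
          simpa [mem_subgroupOf] using O.F.V1_le_N hb⟩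
        uniq := by
          rintro ⟨x, hx⟩
          induction x using QuotientGroup.induction_on with
          | H g =>
            refine Subtype.ext (QuotientGroup.eq.2 ?_)
            rw [MulAction.Quotient.smul_coe, smul_eq_mul, QuotientGroup.eq] at hx
            have hg : g⁻¹ * b * g ∈ O.N.subgroupOf X := by
              have := inv_mem hx
              simpa [mul_assoc] using this
            simpa using inv_mem (key g hg) }
    rw [Nat.card_unique, pow_one]
  · have hgH := key g hg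
    set g' : ↥(O.N.subgroupOf X) := ⟨g, hgH⟩
    set b' : ↥(O.N.subgroupOf X) := ⟨b, mem_subgroupOf.2 (O.F.V1_le_N hb)⟩
    rw [show (⟨g⁻¹ * b * g, hg⟩ : ↥(O.N.subgroupOf X)) = g'⁻¹ * b' * g' from rfl, map_mul, map_mul, map_inv,
      mul_right_comm, inv_mul_cancel, one_mul]

/-- A three-subgroup through the plane, maximal inside the normaliser, is a Sylow subgroup. -/
theorem sylow_of_N {X R : Subgroup G} (hRX : R ≤ X) (hRN : R ≤ O.N) (hp : IsPGroup 3 R) {b : G} (hbR : b ∈ R)
    (hb : b ∈ O.F.V1) (h1 : b ≠ 1)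
    (h : ∀ x ∈ X, x ∈ O.N → (∃ k : ℕ, x ^ 3 ^ k = 1) → x ∈ normalizer (R : Set G) → x ∈ R) :
    ∃ P : Sylow 3 X, (P : Subgroup X) = R.subgroupOf X := by
  haveI : Fact (Nat.Prime 3) := ⟨Nat.prime_three⟩
  obtain ⟨P, hP⟩ := IsPGroup.exists_le_sylow (hp.comap_subtype (K := X))
  refine ⟨P, (le_antisymm hP ?_).symm⟩
  set P' := (P : Subgroup X).map X.subtype with hP'
  have hle : R ≤ P' := fun x hx => ⟨⟨x, hRX hx⟩, hP hx, rfl⟩
  have hp' : IsPGroup 3 P' := P.isPGroup'.map _
  have heq : R = P' := by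
    by_contra hne
    obtain ⟨x, hx, hxR⟩ := SetLike.exists_of_lt
      (Cfsg.Lib.Fusion.lt_inf_normalizer hp' (lt_of_le_of_ne hle hne))
    obtain ⟨hxP, hxN⟩ := mem_inf.1 hx
    obtain ⟨k, hk⟩ := hp' ⟨x, hxP⟩
    refine hxR (h x ?_ (O.normalizer_le hRN hbR hb h1 hxN) ⟨k, congrArg Subtype.val hk⟩ hxN)
    obtain ⟨y, -, rfl⟩ := hxP
    exact y.2
  intro x hx
  exact mem_subgroupOf.2 (heq ▸ ⟨x, hx, rfl⟩)

/-- A subgroup containing a pure plane has no core of order prime to three. -/
theorem core_bot {X : Subgroup G} {B : Subgroup G} (hB : B ≤ O.F.V1) (hB9 : Nat.card B = 9) (hBX : B ≤ X) :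
    Cfsg.pPrimeCore 3 X = ⊥ := by
  set L := Cfsg.pPrimeCore 3 X with hL
  haveI hn : L.Normal := by rw [hL]; infer_instance
  have hbot : L.map X.subtype = ⊥ := O.F.signalizer hB hB9
    (by rw [Subgroup.card_map_of_injective X.subtype_injective]; exact Core.pPrimeCore_coprime 3 _) (by
      rintro b hb _ ⟨l, hl, rfl⟩
      exact ⟨_, hn.conj_mem l hl ⟨b, hBX hb⟩, rfl⟩)
  exact (Subgroup.map_eq_bot_iff_of_injective L X.subtype_injective).1 hbot

end One

end Cfsg.Lib.LFourThree
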